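import Groth.Agent.ProEtLib2.IndEtale
import Groth.Agent.Hensel.Lift

/-!
Maps from ind-étale algebras to henselian local rings.
-/

set_option autoImplicit false

open CategoryTheory CategoryTheory.Limits IsLocalRing

universe u

namespace Groth.Agent.ProEtLib2

/-- A residual point of an ind-étale algebra lifts uniquely to a henselian local ring. -/
theorem existsUnique_lift {R S T K : Type u} [CommRing R] [CommRing S] [CommRing T] [Field K]
    [Algebra R S] [Algebra R T] [Algebra R K] [HenselianLocalRing T] (hS : EtPBC.IsIndEtale R S)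
    (u : S →ₐ[R] K) (q : T →ₐ[R] K) (hq : Function.Surjective q)
    (hkq : RingHom.ker q.toRingHom = maximalIdeal T) :
    ∃! g : S →ₐ[R] T, q.comp g = u := by
  obtain ⟨J, _, _, D, c, hc, het, ⟨e⟩⟩ := hS
  letI : ∀ j, Algebra R (D.obj j).right := fun j => (D.obj j).hom.hom.toAlgebra
  let π : (T ⧸ maximalIdeal T) ≃ₐ[R] K :=
    (Ideal.quotientEquivAlgOfEq R hkq.symm).trans (Ideal.quotientKerAlgEquivOfSurjective (f := q) hq)
  have hπ : ∀ x, π (Ideal.Quotient.mk _ x) = q x := fun x => rfl
  have hpt : ∀ (E : Type u) [CommRing E] [Algebra R E] [Algebra.Etale R E] (s : E →ₐ[R] K),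
      ∃! g : E →ₐ[R] T, q.comp g = s := by
    intro E _ _ _ s
    obtain ⟨g, hg⟩ := (Hensel.bijective_comp_mk (R := R) (E := E) (A := T)
      (I := maximalIdeal T)).2 (π.symm.toAlgHom.comp s)
    refine ⟨g, AlgHom.ext fun x => ?_, fun g' hg' => ?_⟩
    · show q (g x) = s x
      rw [← hπ]
      exact (congrArg π (AlgHom.congr_fun hg x)).trans (π.apply_symm_apply _)
    · refine (Hensel.bijective_comp_mk (R := R) (E := E) (A := T) (I := maximalIdeal T)).1
        (Eq.trans ?_ hg.symm)
      refine AlgHom.ext fun x => π.injective ?_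
      show π (Ideal.Quotient.mk _ (g' x)) = π (π.symm (s x))
      rw [hπ, π.apply_symm_apply]
      exact AlgHom.congr_fun hg' x
  let ι : ∀ j, (D.obj j).right →ₐ[R] S := fun j =>
    ⟨(c.ι.app j ≫ e.hom).right.hom, fun a => congr($(Under.w (c.ι.app j ≫ e.hom)).hom a)⟩
  choose t ht ht' using fun j => haveI : Algebra.Etale R (D.obj j).right := het j
    hpt (D.obj j).right (u.comp (ι j))
  have hnat : ∀ {i j} (f : i ⟶ j) (x), t j ((D.map f).right.hom x) = t i x := by
    intro i j f x
    let φ : (D.obj i).right →ₐ[R] (D.obj j).right :=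
      ⟨(D.map f).right.hom, fun a => congr($(Under.w (D.map f)).hom a)⟩
    refine AlgHom.congr_fun (ht' i ((t j).comp φ) (AlgHom.ext fun y => ?_)) x
    show q (t j (φ y)) = u (ι i y)
    have h1 : q (t j (φ y)) = u (ι j (φ y)) := AlgHom.congr_fun (ht j) (φ y)
    rw [h1]
    refine congrArg u ?_
    exact congrArg e.hom.right.hom congr($(c.w f).right.hom y)
  let s : Cocone D :=
    { pt := Under.mk (CommRingCat.ofHom (algebraMap R T))
      ι :=
        { app := fun j => Under.homMk (CommRingCat.ofHom (t j).toRingHom)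
            (CommRingCat.hom_ext (t j).comp_algebraMap)
          naturality := fun i j f => Under.UnderMorphism.ext <| CommRingCat.hom_ext <|
            RingHom.ext fun x => hnat f x } }
  let m := e.inv ≫ hc.desc s
  let g : S →ₐ[R] T := ⟨m.right.hom, fun a => congr($(Under.w m).hom a)⟩
  have hgι : ∀ j x, g (ι j x) = t j x := fun j x => by
    have : (c.ι.app j ≫ e.hom) ≫ m = s.ι.app j := by simp [m]
    exact congr(($this).right.hom x)
  have hext : ∀ g₁ g₂ : S →ₐ[R] K, (∀ j x, g₁ (ι j x) = g₂ (ι j x)) → g₁ = g₂ := by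
    intro g₁ g₂ h
    have : e.hom ≫ Under.homMk (U := Under.mk _) (V := Under.mk (CommRingCat.ofHom (algebraMap R K)))
          (CommRingCat.ofHom g₁.toRingHom) (CommRingCat.hom_ext g₁.comp_algebraMap) =
        e.hom ≫ Under.homMk (U := Under.mk _) (V := Under.mk (CommRingCat.ofHom (algebraMap R K)))
          (CommRingCat.ofHom g₂.toRingHom) (CommRingCat.hom_ext g₂.comp_algebraMap) :=
      hc.hom_ext fun j => Under.UnderMorphism.ext (CommRingCat.hom_ext (RingHom.ext (h j)))
    have := (cancel_epi e.hom).1 this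
    exact AlgHom.ext fun x => congr(($this).right.hom x)
  refine ⟨g, hext _ _ fun j x => ?_, fun g' hg' => ?_⟩
  · show q (g (ι j x)) = u (ι j x)
    rw [hgι]
    exact AlgHom.congr_fun (ht j) x
  · have h : ∀ j x, g' (ι j x) = t j x := fun j x =>
      AlgHom.congr_fun (ht' j (g'.comp (ι j)) (AlgHom.ext fun y => AlgHom.congr_fun hg' (ι j y))) x
    have : e.hom ≫ Under.homMk (U := Under.mk _) (V := Under.mk (CommRingCat.ofHom (algebraMap R T)))
          (CommRingCat.ofHom g'.toRingHom) (CommRingCat.hom_ext g'.comp_algebraMap) = e.hom ≫ m :=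
      hc.hom_ext fun j => Under.UnderMorphism.ext (CommRingCat.hom_ext (RingHom.ext fun x =>
        (h j x).trans (hgι j x).symm))
    have := (cancel_epi e.hom).1 this
    exact AlgHom.ext fun x => congr(($this).right.hom x)

end Groth.Agent.ProEtLib2
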