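import Groth.Prelude.Def_PBC
import Mathlib

/-!
The quotient of a ring by the ideal generated by a set of idempotents is ind-Zariski.
-/

set_option autoImplicit false

open CategoryTheory CategoryTheory.Limits

universe u

namespace Groth.Agent.ProEtLib2

variable {A : Type u} [CommRing A]

theorem isLocalIso_quotient_idempotent {e : A} (he : IsIdempotentElem e) :
    Algebra.IsLocalIso A (A ⧸ Ideal.span {e}) := by
  have h1 : IsLocalization.Away (1 - e) (A ⧸ Ideal.span {e}) := by
    have := IsLocalization.Away.quotient_of_isIdempotentElem (e := 1 - e) he.one_sub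
    rwa [sub_sub_cancel] at this
  have : Algebra.IsStandardOpenImmersion A (A ⧸ Ideal.span {e}) := ⟨1 - e, h1⟩
  infer_instance

/-- The idempotents in a given ideal, ordered by the ideals they generate. -/
structure Idem (E : Ideal A) : Type u where
  val : A
  idem : IsIdempotentElem val
  mem : val ∈ E

instance (E : Ideal A) : Preorder (Idem E) := Preorder.lift fun e => Ideal.span {e.val}

instance (E : Ideal A) : Nonempty (Idem E) := ⟨⟨0, IsIdempotentElem.zero, zero_mem _⟩⟩

instance (E : Ideal A) : IsDirectedOrder (Idem E) := by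
  refine ⟨fun a b => ?_⟩
  have ha : a.val * a.val = a.val := a.idem
  have hb : b.val * b.val = b.val := b.idem
  refine ⟨⟨a.val + b.val - a.val * b.val, ?_, sub_mem (add_mem a.mem b.mem) (E.mul_mem_right _ a.mem)⟩,
    ?_, ?_⟩
  · show _ * _ = _
    linear_combination (1 - 2 * b.val + b.val * b.val) * ha + (1 - a.val) * hb
  · show Ideal.span {a.val} ≤ Ideal.span {_}
    rw [Ideal.span_singleton_le_span_singleton]
    exact ⟨a.val, by linear_combination (b.val - 1) * ha⟩
  · show Ideal.span {b.val} ≤ Ideal.span {_}
    rw [Ideal.span_singleton_le_span_singleton]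
    exact ⟨b.val, by linear_combination (a.val - 1) * hb⟩

/-- The diagram of the quotients by idempotents of `E`. -/
def diagram (E : Ideal A) : Idem E ⥤ Under (CommRingCat.of A) where
  obj e := Under.mk (CommRingCat.ofHom (Ideal.Quotient.mk (Ideal.span {e.val})))
  map {a b} h := Under.homMk (CommRingCat.ofHom (Ideal.Quotient.factor (leOfHom h)))
    (CommRingCat.hom_ext (RingHom.ext fun _ => rfl))
  map_id e := Under.UnderMorphism.ext <| CommRingCat.hom_ext <|
    Ideal.Quotient.ringHom_ext (RingHom.ext fun _ => rfl)
  map_comp f g := Under.UnderMorphism.ext <| CommRingCat.hom_ext <|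
    Ideal.Quotient.ringHom_ext (RingHom.ext fun _ => rfl)

/-- The cocone with point `A ⧸ E`. -/
def cocone (E : Ideal A) : Cocone (diagram E) where
  pt := Under.mk (CommRingCat.ofHom (Ideal.Quotient.mk E))
  ι :=
    { app := fun e => Under.homMk (CommRingCat.ofHom (Ideal.Quotient.factor
          ((Ideal.span_singleton_le_iff_mem _).2 e.mem)))
        (CommRingCat.hom_ext (RingHom.ext fun _ => rfl))
      naturality := fun a b f => Under.UnderMorphism.ext <| CommRingCat.hom_ext <|
        Ideal.Quotient.ringHom_ext (RingHom.ext fun _ => rfl) }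

theorem isIndZariski_quotient (E : Ideal A) (hE : E = Ideal.span {e | IsIdempotentElem e ∧ e ∈ E}) :
    EtPBC.IsIndZariski A (A ⧸ E) := by
  have hker : ∀ s : Cocone (diagram E), E ≤ RingHom.ker s.pt.hom.hom := by
    intro s
    refine hE.le.trans (Ideal.span_le.2 ?_)
    rintro e ⟨he, heE⟩
    have h := congr($(Under.w (s.ι.app ⟨e, he, heE⟩)).hom e)
    rw [SetLike.mem_coe, RingHom.mem_ker]
    refine h.symm.trans ?_
    exact (congrArg (s.ι.app ⟨e, he, heE⟩).right.hom
      (Ideal.Quotient.eq_zero_iff_mem.2 (Ideal.mem_span_singleton_self e))).trans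
      (map_zero (s.ι.app ⟨e, he, heE⟩).right.hom)
  let hc : IsColimit (cocone E) :=
    { desc := fun s => Under.homMk (CommRingCat.ofHom (Ideal.Quotient.lift E s.pt.hom.hom (hker s)))
        (CommRingCat.hom_ext (Ideal.Quotient.lift_comp_mk E s.pt.hom.hom _))
      fac := fun s e => Under.UnderMorphism.ext <| CommRingCat.hom_ext <|
        Ideal.Quotient.ringHom_ext (RingHom.ext fun a => congr($(Under.w (s.ι.app e)).hom a).symm)
      uniq := fun s m hm => Under.UnderMorphism.ext <| CommRingCat.hom_ext <|
        Ideal.Quotient.ringHom_ext (RingHom.ext fun a => congr($(Under.w m).hom a)) }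
  refine ⟨Idem E, inferInstance, inferInstance, diagram E, cocone E, hc, fun e => ?_, ⟨Iso.refl _⟩⟩
  have h : (Ideal.Quotient.mk (Ideal.span {e.val})).toAlgebra = Ideal.Quotient.algebra A :=
    Algebra.algebra_ext _ _ fun _ => rfl
  change @Algebra.IsLocalIso A (A ⧸ Ideal.span {e.val}) _ _ (Ideal.Quotient.mk _).toAlgebra
  rw [h]
  exact isLocalIso_quotient_idempotent e.idem

end Groth.Agent.ProEtLib2
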