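import Groth.Agent.ProEtLib2.IndEtale
import Groth.Agent.ProEtLib2.IdemQuot

/-!
Quotients by idempotents, the diagonal of an ind-étale algebra, and weak étaleness.
-/

set_option autoImplicit false

open CategoryTheory CategoryTheory.Limits TensorProduct

universe u

namespace Groth.Agent.ProEtLib2

theorem etale_quotient_idem {A : Type u} [CommRing A] {e : A} (he : IsIdempotentElem e) :
    Algebra.Etale A (A ⧸ Ideal.span {e}) := by
  have : IsLocalization.Away (1 - e) (A ⧸ Ideal.span {e}) := by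
    have := IsLocalization.Away.quotient_of_isIdempotentElem (e := 1 - e) he.one_sub
    rwa [sub_sub_cancel] at this
  exact Algebra.Etale.of_isLocalizationAway (1 - e)

theorem etale_of_isLocalIso {A B : Type u} [CommRing A] [CommRing B] [Algebra A B]
    [Algebra.IsLocalIso A B] : Algebra.Etale A B := by
  rw [← RingHom.etale_algebraMap]
  refine RingHom.Etale.ofLocalizationSpanTarget _ _
    (Algebra.IsLocalIso.span_isStandardOpenImmersion_eq_top A B) fun g => ?_
  obtain ⟨r, hr⟩ : Algebra.IsStandardOpenImmersion A (Localization.Away (g : B)) := g.2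
  rw [← IsScalarTower.algebraMap_eq, RingHom.etale_algebraMap]
  exact Algebra.Etale.of_isLocalizationAway r

theorem isIndEtale_of_algEquiv {A B B' : Type u} [CommRing A] [CommRing B] [CommRing B']
    [Algebra A B] [Algebra A B'] (e : B ≃ₐ[A] B') (h : EtPBC.IsIndEtale A B) :
    EtPBC.IsIndEtale A B' := by
  rw [isIndEtale_iff] at *
  have : CommRingCat.ofHom (algebraMap A B') =
      CommRingCat.ofHom (algebraMap A B) ≫ e.toRingEquiv.toCommRingCatIso.hom :=
    CommRingCat.hom_ext (RingHom.ext fun a => (e.commutes a).symm)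
  rw [this]
  exact (MorphismProperty.cancel_right_of_respectsIso _ _ _).2 h

/-- The quotient by an ideal generated by idempotents is ind-étale. -/
theorem isIndEtale_quotient {A : Type u} [CommRing A] (E : Ideal A)
    (hE : E = Ideal.span {e | IsIdempotentElem e ∧ e ∈ E}) : EtPBC.IsIndEtale A (A ⧸ E) := by
  obtain ⟨J, i1, i2, D, c, hc, h, e⟩ := isIndZariski_quotient E hE
  refine ⟨J, i1, i2, D, c, hc, fun j => ?_, e⟩
  letI := (D.obj j).hom.hom.toAlgebra
  haveI : Algebra.IsLocalIso A (D.obj j).right := h j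
  exact etale_of_isLocalIso

theorem span_idem_eq {A : Type u} [CommRing A] {E : Ideal A} {S : Set A}
    (hS : ∀ e ∈ S, IsIdempotentElem e ∧ e ∈ E) (hE : E ≤ Ideal.span S) :
    E = Ideal.span {e | IsIdempotentElem e ∧ e ∈ E} :=
  le_antisymm (hE.trans (Ideal.span_mono hS)) (Ideal.span_le.2 fun _ he => he.2)

/-- The kernel of `B ⊗ B → B` of an ind-étale algebra is generated by idempotents. -/
theorem kaehlerIdeal_eq_span {A B : Type u} [CommRing A] [CommRing B] [Algebra A B]
    (h : EtPBC.IsIndEtale A B) :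
    KaehlerDifferential.ideal A B =
      Ideal.span {e | IsIdempotentElem e ∧ e ∈ KaehlerDifferential.ideal A B} := by
  refine span_idem_eq (fun e he => he) ?_
  conv_lhs => rw [← KaehlerDifferential.span_range_eq_ideal]
  rw [Ideal.span_le]
  rintro _ ⟨b, rfl⟩
  obtain ⟨E, _, _, _, u, v, huv⟩ := exists_factor h (Polynomial A) (Polynomial.aeval b)
  obtain ⟨ε, hε, hsp⟩ : ∃ ε, IsIdempotentElem ε ∧
      KaehlerDifferential.ideal A E = Ideal.span {ε} :=
    (Ideal.isIdempotentElem_iff_of_fg _ (KaehlerDifferential.ideal_fg A E)).mp <|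
      (Ideal.cotangent_subsingleton_iff _).mp <| inferInstanceAs <| Subsingleton Ω[E⁄A]
  let ψ : E ⊗[A] E →ₐ[A] B ⊗[A] B := Algebra.TensorProduct.map v v
  have hψ : ∀ t, Algebra.TensorProduct.lmul' A (ψ t) = v (Algebra.TensorProduct.lmul' A t) := by
    intro t
    induction t with
    | zero => simp
    | tmul p q => simp [ψ]
    | add p q hp hq => simp [hp, hq]
  have hεI : ε ∈ KaehlerDifferential.ideal A E := hsp ▸ Ideal.mem_span_singleton_self ε
  have hmem : (1 : E) ⊗ₜ[A] u Polynomial.X - u Polynomial.X ⊗ₜ[A] (1 : E) ∈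
      KaehlerDifferential.ideal A E := by
    rw [← KaehlerDifferential.span_range_eq_ideal]
    exact Ideal.subset_span ⟨_, rfl⟩
  have hb : v (u Polynomial.X) = b := (AlgHom.congr_fun huv _).trans (Polynomial.aeval_X b)
  rw [hsp, Ideal.mem_span_singleton] at hmem
  obtain ⟨t, ht⟩ := hmem
  have h2 := congrArg ψ ht
  simp only [map_sub, map_mul, ψ, Algebra.TensorProduct.map_tmul, map_one, hb] at h2
  show (1 : B) ⊗ₜ[A] b - b ⊗ₜ[A] (1 : B) ∈ _
  rw [h2]
  refine Ideal.mul_mem_right _ _ (Ideal.subset_span ⟨hε.map ψ, ?_⟩)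
  show Algebra.TensorProduct.lmul' A (ψ ε) = 0
  rw [hψ, show Algebra.TensorProduct.lmul' A ε = 0 from hεI, map_zero]

/-- A map between ind-étale algebras is ind-étale. -/
theorem isIndEtale_of_tower {A B C : Type u} [CommRing A] [CommRing B] [CommRing C] [Algebra A B]
    [Algebra B C] [Algebra A C] [IsScalarTower A B C] (hB : EtPBC.IsIndEtale A B)
    (hC : EtPBC.IsIndEtale A C) : EtPBC.IsIndEtale B C := by
  let f : B ⊗[A] C →ₐ[B] C :=
    Algebra.TensorProduct.lift (Algebra.ofId B C) (AlgHom.id A C) fun _ _ => Commute.all _ _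
  have hf : Function.Surjective f := fun c => ⟨1 ⊗ₜ c, by simp [f]⟩
  let g : B ⊗[A] B →ₐ[B] B ⊗[A] C :=
    Algebra.TensorProduct.map (AlgHom.id B B) (IsScalarTower.toAlgHom A B C)
  have hfg : ∀ t, f (g t) = algebraMap B C (Algebra.TensorProduct.lmul' A t) := by
    intro t
    induction t with
    | zero => simp
    | tmul p q => simp [f, g]
    | add p q hp hq => simp [hp, hq]
  let I' := (KaehlerDifferential.ideal A B).map g.toRingHom
  have hdiff : ∀ x, x - (1 : B) ⊗ₜ[A] f x ∈ I' := by
    intro x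
    induction x with
    | zero => simp
    | tmul b c =>
      have hmem : g ((1 : B) ⊗ₜ[A] b - b ⊗ₜ[A] (1 : B)) ∈ I' := Ideal.mem_map_of_mem g.toRingHom
        (by rw [← KaehlerDifferential.span_range_eq_ideal]; exact Ideal.subset_span ⟨b, rfl⟩)
      have : b ⊗ₜ[A] c - (1 : B) ⊗ₜ[A] f (b ⊗ₜ c) =
          -(g ((1 : B) ⊗ₜ[A] b - b ⊗ₜ[A] (1 : B)) * ((1 : B) ⊗ₜ[A] c)) := by
        simp [f, g, sub_mul, Algebra.smul_def]
      rw [this]
      exact neg_mem (Ideal.mul_mem_right _ _ hmem)
    | add p q hp hq =>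
      rw [map_add, tmul_add]
      convert add_mem hp hq using 1; ring
  have hker : RingHom.ker f.toRingHom ≤
      Ideal.span (g '' {e | IsIdempotentElem e ∧ e ∈ KaehlerDifferential.ideal A B}) := by
    intro x hx
    have h0 := hdiff x
    rw [show f x = 0 from hx, tmul_zero, sub_zero] at h0
    have h1 : I' = Ideal.span (g '' {e | IsIdempotentElem e ∧ e ∈ KaehlerDifferential.ideal A B}) := by
      show (KaehlerDifferential.ideal A B).map g.toRingHom = _
      conv_lhs => rw [kaehlerIdeal_eq_span hB]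
      rw [Ideal.map_span]
      rfl
    rwa [← h1]
  have hspan := span_idem_eq (E := RingHom.ker f.toRingHom) (by
    rintro _ ⟨e, ⟨he, heI⟩, rfl⟩
    exact ⟨he.map g, show f (g e) = 0 by
      rw [hfg, show Algebra.TensorProduct.lmul' A e = 0 from heI, map_zero]⟩) hker
  have h1 : EtPBC.IsIndEtale (B ⊗[A] C) ((B ⊗[A] C) ⧸ RingHom.ker f.toRingHom) :=
    isIndEtale_quotient _ hspan
  have h2 : EtPBC.IsIndEtale B ((B ⊗[A] C) ⧸ RingHom.ker f.toRingHom) :=
    isIndEtale_trans (isIndEtale_baseChange hC) h1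
  exact isIndEtale_of_algEquiv (Ideal.quotientKerAlgEquivOfSurjective (f := f) hf) h2

/-- An ind-étale algebra is flat. -/
theorem flat_of_isIndEtale {A B : Type u} [CommRing A] [CommRing B] [Algebra A B]
    (h : EtPBC.IsIndEtale A B) : Module.Flat A B := by
  refine Module.Flat.of_forall_isTrivialRelation fun {l f x} hfx => ?_
  let I : Ideal (MvPolynomial (Fin l) A) := Ideal.span {∑ i, f i • MvPolynomial.X i}
  have hI : ∀ p ∈ I, MvPolynomial.aeval x p = 0 := by
    intro p hp
    obtain ⟨q, rfl⟩ := Ideal.mem_span_singleton.1 hp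
    simp [hfx]
  haveI : Algebra.FinitePresentation A (MvPolynomial (Fin l) A ⧸ I) :=
    Algebra.FinitePresentation.quotient ⟨{∑ i, f i • MvPolynomial.X i}, by simp [I]⟩
  obtain ⟨E, _, _, _, u, v, huv⟩ :=
    exists_factor h _ (Ideal.Quotient.liftₐ I (MvPolynomial.aeval x) hI)
  let y : Fin l → E := fun i => u (Ideal.Quotient.mk I (MvPolynomial.X i))
  have hy : ∑ i, f i • y i = 0 := by
    have : ∑ i, f i • y i = u (Ideal.Quotient.mk I (∑ i, f i • MvPolynomial.X i)) := by
      rw [← Ideal.Quotient.mkₐ_eq_mk A, map_sum, map_sum]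
      exact Finset.sum_congr rfl fun i _ => by rw [map_smul, map_smul]; rfl
    rw [this, Ideal.Quotient.eq_zero_iff_mem.2 (Ideal.mem_span_singleton_self _), map_zero]
  obtain ⟨k, a, z, haz, ha⟩ := Module.Flat.isTrivialRelation_of_sum_smul_eq_zero (R := A) (M := E) (f := f) (x := y) hy
  refine ⟨k, a, fun j => v (z j), fun i => ?_, ha⟩
  have hx : v (y i) = x i :=
    (AlgHom.congr_fun huv _).trans (MvPolynomial.aeval_X x i)
  rw [← hx, haz i, map_sum]
  simp

/-- An ind-étale algebra is weakly étale. -/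
theorem weaklyEtale_of_isIndEtale {A B : Type u} [CommRing A] [CommRing B] [Algebra A B]
    (h : EtPBC.IsIndEtale A B) : Algebra.WeaklyEtale A B := by
  refine ⟨flat_of_isIndEtale h, ?_⟩
  let μ := Algebra.TensorProduct.lmul' A (S := B)
  letI : Algebra (B ⊗[A] B) B := μ.toRingHom.toAlgebra
  have hμ : Function.Surjective μ := fun b => ⟨1 ⊗ₜ b, by simp [μ]⟩
  have h1 := isIndEtale_quotient _ (kaehlerIdeal_eq_span h)
  let e : ((B ⊗[A] B) ⧸ KaehlerDifferential.ideal A B) ≃ₐ[B ⊗[A] B] B :=
    { RingHom.quotientKerEquivOfSurjective (f := μ.toRingHom) hμ with commutes' := fun _ => rfl }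
  exact flat_of_isIndEtale (isIndEtale_of_algEquiv e h1)

end Groth.Agent.ProEtLib2
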