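import Groth.Prelude.Def_PBC
import Mathlib

/-!
Ind-étale ring maps: the factorization criterion, base change, composition and stability under
filtered colimits.
-/

set_option autoImplicit false

open CategoryTheory CategoryTheory.Limits

universe u

attribute [local instance] Cardinal.fact_isRegular_aleph0

namespace Groth.Agent.ProEtLib2

/-- Étale morphisms of `CommRingCat`. -/
def etaleProp : MorphismProperty CommRingCat.{u} :=
  RingHom.toMorphismProperty RingHom.Etale

theorem etaleProp_ofHom {A B : Type u} [CommRing A] [CommRing B] [Algebra A B] :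
    etaleProp (CommRingCat.ofHom (algebraMap A B)) ↔ Algebra.Etale A B :=
  RingHom.etale_algebraMap

theorem etaleProp_le : etaleProp.{u} ≤ MorphismProperty.isFinitelyPresentable.{u} CommRingCat.{u} := by
  intro R S f hf
  refine CommRingCat.isFinitelyPresentable_hom f ?_
  algebraize [f.hom]
  haveI : Algebra.Etale R S := hf.toAlgebra
  exact (inferInstance : Algebra.FinitePresentation R S)

instance : etaleProp.{u}.IsStableUnderComposition where
  comp_mem f g hf hg := RingHom.Etale.stableUnderComposition f.hom g.hom hf hg

instance : etaleProp.{u}.IsStableUnderCobaseChange :=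
  RingHom.isStableUnderCobaseChange_toMorphismProperty_iff.2
    RingHom.Etale.isStableUnderBaseChange

instance : etaleProp.{u}.RespectsIso :=
  RingHom.toMorphismProperty_respectsIso_iff.1 RingHom.Etale.respectsIso

/-- The category of algebras over a ring is finitely accessible. -/
instance isFinitelyAccessible_under (R : CommRingCat.{u}) :
    IsFinitelyAccessibleCategory.{u} (Under R) := by
  have : IsCardinalLocallyPresentable.{u} (Under R) Cardinal.aleph0 := by
    rw [IsCardinalLocallyPresentable.iff_exists_isStrongGenerator]
    let G : Under R := Under.mk (CommRingCat.ofHom (Polynomial.C : R →+* Polynomial R))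
    let f : ∀ (X : Under R), X.right → (G ⟶ X) := fun X x =>
      Under.homMk (CommRingCat.ofHom (Polynomial.eval₂RingHom X.hom.hom x))
        (CommRingCat.hom_ext (RingHom.ext fun r => Polynomial.eval₂_C _ _))
    have hf : ∀ X x, (f X x).right.hom (Polynomial.X : Polynomial R) = x :=
      fun X x => Polynomial.eval₂_X _ _
    refine ⟨ObjectProperty.singleton G, inferInstance, ?_, ?_⟩
    · rw [ObjectProperty.isStrongGenerator_iff]
      have hsep : (ObjectProperty.singleton G).IsSeparating := by
        intro X Y g h hgh
        refine Under.UnderMorphism.ext (CommRingCat.hom_ext (RingHom.ext fun x => ?_))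
        have := congr($(hgh G (by simp [ObjectProperty.singleton_iff]) (f X x)).right.hom (Polynomial.X))
        rw [← hf X x]
        exact this
      refine ⟨hsep, fun X Y i hi hs => ?_⟩
      have hbij : Function.Bijective i.right.hom := by
        refine ⟨fun a b hab => ?_, fun y => ?_⟩
        · have : f X a ≫ i = f X b ≫ i := by
            refine Under.UnderMorphism.ext (CommRingCat.hom_ext (Polynomial.ringHom_ext
              (fun r => ?_) ?_))
            · show i.right.hom ((f X a).right.hom (Polynomial.C r)) =
                i.right.hom ((f X b).right.hom (Polynomial.C r))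
              exact congrArg _ ((Polynomial.eval₂_C _ _).trans (Polynomial.eval₂_C _ _).symm)
            · show i.right.hom ((f X a).right.hom Polynomial.X) =
                i.right.hom ((f X b).right.hom Polynomial.X)
              rw [hf, hf, hab]
          have := congr($((cancel_mono i).1 this).right.hom Polynomial.X)
          rwa [hf, hf] at this
        · obtain ⟨g, hg⟩ := hs G (by simp [ObjectProperty.singleton_iff]) (f Y y)
          refine ⟨g.right.hom Polynomial.X, ?_⟩
          rw [← hf Y y]
          exact congr($(hg).right.hom Polynomial.X)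
      have : IsIso i.right := (ConcreteCategory.isIso_iff_bijective i.right).2 hbij
      have : IsIso ((Under.forget R).map i) := this
      exact isIso_of_reflects_iso i (Under.forget R)
    · intro X hX
      obtain rfl : G = X := by simpa [ObjectProperty.singleton_iff] using hX
      refine CommRingCat.isFinitelyPresentable_under R _ ?_
      show (algebraMap R (Polynomial R)).FinitePresentation
      exact RingHom.finitePresentation_algebraMap.2 inferInstance
  infer_instance

/-- The data in `EtPBC.IsIndEtale` is `MorphismProperty.ind` of étale maps. -/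
theorem isIndEtale_iff {A B : Type u} [CommRing A] [CommRing B] [Algebra A B] :
    EtPBC.IsIndEtale A B ↔
      MorphismProperty.ind.{u} etaleProp.{u} (CommRingCat.ofHom (algebraMap A B)) := by
  rw [MorphismProperty.ind_iff_ind_underMk]
  constructor
  · rintro ⟨J, _, _, D, c, hc, h, ⟨e⟩⟩
    exact ⟨J, inferInstance, inferInstance,
      ColimitPresentation.ofIso ⟨D, c.ι, hc⟩ e, fun j => h j⟩
  · rintro ⟨J, _, _, pres, h⟩
    exact ⟨J, inferInstance, inferInstance, pres.diag, Cocone.mk _ pres.ι, pres.isColimit,
      fun j => h j, ⟨Iso.refl _⟩⟩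

theorem isIndEtale_iff_hom {A B : CommRingCat.{u}} (f : A ⟶ B) :
    letI := f.hom.toAlgebra
    EtPBC.IsIndEtale A B ↔ MorphismProperty.ind.{u} etaleProp.{u} f :=
  letI := f.hom.toAlgebra
  isIndEtale_iff

theorem ringHom_ulift_int_ext {R : Type u} [CommRing R] (f g : ULift.{u} ℤ →+* R) : f = g :=
  RingHom.ext fun n => by
    have h : n = ((n.down : ℤ) : ULift.{u} ℤ) := by ext; simp
    rw [h, map_intCast, map_intCast]

instance : MorphismProperty.PreIndSpreads.{u} etaleProp.{u} where
  exists_isPushout {J} _ _ D c hc T f hf := by
    algebraize [f.hom]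
    haveI : Algebra.Etale c.pt T := hf.toAlgebra
    letI : Algebra (ULift.{u} ℤ) c.pt :=
      ((Int.castRingHom c.pt).comp ULift.ringEquiv.toRingHom).toAlgebra
    obtain ⟨A₀, B₀, _, _, hA₀, hB₀, ⟨e⟩⟩ :=
      Algebra.Etale.exists_subalgebra_fg (R := ULift.{u} ℤ) (A := c.pt) (B := T)
    haveI : Algebra.FiniteType (ULift.{u} ℤ) A₀ := A₀.fg_iff_finiteType.1 hA₀
    haveI : IsNoetherianRing (ULift.{u} ℤ) :=
      isNoetherianRing_of_ringEquiv ℤ ULift.ringEquiv.symm
    haveI : Algebra.FinitePresentation (ULift.{u} ℤ) A₀ :=
      Algebra.FinitePresentation.of_finiteType.1 inferInstance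
    let α : (Functor.const J).obj (CommRingCat.of (ULift.{u} ℤ)) ⟶ D :=
      { app := fun j => CommRingCat.ofHom ((Int.castRingHom _).comp ULift.ringEquiv.toRingHom)
        naturality := fun i j g => CommRingCat.hom_ext (ringHom_ulift_int_ext _ _) }
    obtain ⟨j, g, -, hg⟩ := RingHom.EssFiniteType.exists_eq_comp_ι_app_of_isColimit
      (CommRingCat.of (ULift.{u} ℤ)) D α
      (CommRingCat.ofHom (algebraMap (ULift.{u} ℤ) A₀)) c hc
      (RingHom.finitePresentation_algebraMap.2 inferInstance)
      (CommRingCat.ofHom A₀.val.toRingHom)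
      (fun i => CommRingCat.hom_ext (ringHom_ulift_int_ext _ _))
    letI : Algebra A₀ (D.obj j) := g.hom.toAlgebra
    have hout : IsPushout (g ≫ c.ι.app j) (CommRingCat.ofHom (algebraMap A₀ B₀)) f
        (CommRingCat.ofHom (e.symm.toRingEquiv.toRingHom.comp
          Algebra.TensorProduct.includeRight.toRingHom)) := by
      refine (CommRingCat.isPushout_tensorProduct A₀ c.pt B₀).of_iso (Iso.refl _) (Iso.refl _)
        (Iso.refl _) e.symm.toRingEquiv.toCommRingCatIso ?_ ?_ ?_ ?_
      · simp only [Iso.refl_hom, Category.id_comp, Category.comp_id]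
        rw [← hg]
        rfl
      · simp
      · refine CommRingCat.hom_ext (RingHom.ext fun x => ?_)
        exact e.symm.commutes x
      · rfl
    have hin := CommRingCat.isPushout_tensorProduct A₀ (D.obj j) B₀
    change IsPushout g _ _ _ at hin
    let g' := hin.desc (c.ι.app j ≫ f) _ (by rw [← Category.assoc]; exact hout.w)
    refine ⟨j, _, _, g', IsPushout.of_left ?_ (hin.inl_desc _ _ _).symm hin, ?_⟩
    · rw [show _ ≫ g' = _ from hin.inr_desc _ _ _]
      exact hout
    · exact RingHom.etale_algebraMap.2 (inferInstance : Algebra.Etale (D.obj j) _)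

instance : (MorphismProperty.ind.{u} etaleProp.{u}).IsStableUnderComposition :=
  MorphismProperty.IsStableUnderComposition.ind_of_preIndSpreads etaleProp_le

theorem isIndEtale_trans {A B C : Type u} [CommRing A] [CommRing B] [CommRing C] [Algebra A B]
    [Algebra B C] [Algebra A C] [IsScalarTower A B C] (hAB : EtPBC.IsIndEtale A B)
    (hBC : EtPBC.IsIndEtale B C) : EtPBC.IsIndEtale A C := by
  rw [isIndEtale_iff] at *
  rw [IsScalarTower.algebraMap_eq A B C]
  exact MorphismProperty.comp_mem _ _ _ hAB hBC

open TensorProduct in
theorem isIndEtale_baseChange {A B A' : Type u} [CommRing A] [CommRing B] [CommRing A']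
    [Algebra A B] [Algebra A A'] (h : EtPBC.IsIndEtale A B) :
    EtPBC.IsIndEtale A' (A' ⊗[A] B) := by
  rw [isIndEtale_iff] at *
  exact MorphismProperty.of_isPushout (CommRingCat.isPushout_tensorProduct A A' B) h

theorem isIndEtale_of_etale {A B : Type u} [CommRing A] [CommRing B] [Algebra A B]
    [Algebra.Etale A B] : EtPBC.IsIndEtale A B :=
  isIndEtale_iff.2 (MorphismProperty.le_ind _ _ (etaleProp_ofHom.2 inferInstance))

/-- A filtered colimit of ind-étale algebras is ind-étale. -/
theorem isIndEtale_of_isColimit {A B : Type u} [CommRing A] [CommRing B] [Algebra A B]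
    {J : Type u} [SmallCategory J] [IsFiltered J] (D : J ⥤ Under (CommRingCat.of A))
    (hD : ∀ j, MorphismProperty.ind.{u} etaleProp.{u} (D.obj j).hom)
    (c : Cocone D) (hc : IsColimit c)
    (e : c.pt ≅ Under.mk (CommRingCat.ofHom (algebraMap A B))) : EtPBC.IsIndEtale A B := by
  rw [isIndEtale_iff, ← MorphismProperty.ind_ind.{u} etaleProp_le,
    MorphismProperty.ind_iff_ind_underMk]
  exact ⟨J, inferInstance, inferInstance, ColimitPresentation.ofIso ⟨D, c.ι, hc⟩ e, hD⟩

/-- A map from a finitely presented algebra to an ind-étale algebra factors through an étale one. -/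
theorem exists_factor {A B : Type u} [CommRing A] [CommRing B] [Algebra A B]
    (h : EtPBC.IsIndEtale A B) (P : Type u) [CommRing P] [Algebra A P]
    [Algebra.FinitePresentation A P] (g : P →ₐ[A] B) :
    ∃ (E : Type u) (_ : CommRing E) (_ : Algebra A E) (_ : Algebra.Etale A E)
      (u : P →ₐ[A] E) (v : E →ₐ[A] B), v.comp u = g := by
  rw [isIndEtale_iff, MorphismProperty.ind_iff_exists etaleProp_le] at h
  obtain ⟨W, u, v, huv, hW⟩ := h (CommRingCat.ofHom (algebraMap A P))
    (CommRingCat.ofHom g.toRingHom)
    (CommRingCat.isFinitelyPresentable_hom _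
      (RingHom.finitePresentation_algebraMap.2 inferInstance))
    (CommRingCat.hom_ext g.comp_algebraMap)
  letI : Algebra A W := (u.hom.comp (algebraMap A P)).toAlgebra
  refine ⟨W, inferInstance, inferInstance, hW.toAlgebra, ⟨u.hom, fun _ => rfl⟩,
    ⟨v.hom, fun a => ?_⟩, AlgHom.ext fun p => congr($(huv).hom p)⟩
  exact (congr($(huv).hom (algebraMap A P a))).trans (g.commutes a)

end Groth.Agent.ProEtLib2
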