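import Groth.Agent.ProEtLib2.IndEtale
import Mathlib

/-!
A localization as a filtered colimit of localizations at single elements, and descent of étale
algebras to such a stage.
-/

set_option autoImplicit false

open CategoryTheory CategoryTheory.Limits

universe u

namespace Groth.Agent.ProEtLib2

variable {A : Type u} [CommRing A]

/-- Elements of a submonoid, ordered by divisibility. -/
structure DvdIdx (S : Submonoid A) : Type u where
  val : A
  mem : val ∈ S

instance (S : Submonoid A) : Preorder (DvdIdx S) where
  le a b := a.val ∣ b.val
  le_refl a := dvd_refl a.val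
  le_trans _ _ _ := dvd_trans

instance (S : Submonoid A) : Nonempty (DvdIdx S) := ⟨⟨1, S.one_mem⟩⟩

instance (S : Submonoid A) : IsDirectedOrder (DvdIdx S) :=
  ⟨fun a b => ⟨⟨a.val * b.val, S.mul_mem a.mem b.mem⟩, dvd_mul_right _ _, dvd_mul_left _ _⟩⟩

/-- The transition map of localizations. -/
noncomputable def awayMap {a b : A} (h : a ∣ b) : Localization.Away a →+* Localization.Away b :=
  IsLocalization.Away.lift a (g := algebraMap A (Localization.Away b))
    (isUnit_of_dvd_unit (map_dvd _ h) (IsLocalization.Away.algebraMap_isUnit b))

theorem awayMap_algebraMap {a b : A} (h : a ∣ b) (x : A) :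
    awayMap h (algebraMap A _ x) = algebraMap A _ x :=
  IsLocalization.Away.lift_eq _ _ x

/-- The diagram `s ↦ A_s`. -/
noncomputable abbrev awayDiagram (S : Submonoid A) : DvdIdx S ⥤ CommRingCat.{u} where
  obj s := CommRingCat.of (Localization.Away s.val)
  map h := CommRingCat.ofHom (awayMap (leOfHom h))
  map_id s := CommRingCat.hom_ext (IsLocalization.ringHom_ext (Submonoid.powers s.val)
    (RingHom.ext fun x => awayMap_algebraMap (dvd_refl s.val) x))
  map_comp {a b c} f g := CommRingCat.hom_ext (IsLocalization.ringHom_ext (Submonoid.powers a.val)
    (RingHom.ext fun x => (awayMap_algebraMap (dvd_trans (leOfHom f) (leOfHom g)) x).trans (by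
      show _ = awayMap (leOfHom g) (awayMap (leOfHom f) (algebraMap A _ x))
      rw [awayMap_algebraMap, awayMap_algebraMap])))

variable (S : Submonoid A) (B : Type u) [CommRing B] [Algebra A B] [IsLocalization S B]

/-- The map from a stage to the localization. -/
noncomputable def toLoc (s : DvdIdx S) : Localization.Away s.val →+* B :=
  IsLocalization.Away.lift s.val (g := algebraMap A B) (IsLocalization.map_units B ⟨s.val, s.mem⟩)

theorem toLoc_algebraMap (s : DvdIdx S) (x : A) :
    toLoc S B s (algebraMap A (Localization.Away s.val) x) = algebraMap A B x :=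
  IsLocalization.Away.lift_eq _ _ x

/-- The cocone with point the localization. -/
noncomputable abbrev awayCocone : Cocone (awayDiagram S) where
  pt := CommRingCat.of B
  ι :=
    { app := fun s => CommRingCat.ofHom (toLoc S B s)
      naturality := fun a b f => CommRingCat.hom_ext
        (IsLocalization.ringHom_ext (Submonoid.powers a.val) (RingHom.ext fun x => by
          show toLoc S B b (awayMap (leOfHom f) (algebraMap A _ x)) =
            toLoc S B a (algebraMap A _ x)
          rw [awayMap_algebraMap, toLoc_algebraMap, toLoc_algebraMap])) }

/-- The localization is the colimit. -/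
noncomputable def isColimitAwayCocone : IsColimit (awayCocone S B) :=
  let one : DvdIdx S := ⟨1, S.one_mem⟩
  have hcompat : ∀ (c : Cocone (awayDiagram S)) (s : DvdIdx S) (x : A),
      (c.ι.app s).hom (algebraMap A (Localization.Away s.val) x) =
        (c.ι.app one).hom (algebraMap A (Localization.Away one.val) x) := fun c s x => by
    have h := congr($(c.w (homOfLE (show one ≤ s from one_dvd _))).hom (algebraMap A _ x))
    rw [← h]
    show _ = (c.ι.app s).hom (awayMap (show one.val ∣ s.val from one_dvd _) (algebraMap A _ x))
    rw [awayMap_algebraMap]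
  have hu : ∀ (c : Cocone (awayDiagram S)) (y : S),
      IsUnit ((c.ι.app one).hom.comp (algebraMap A (Localization.Away one.val)) y) := fun c y => by
    show IsUnit ((c.ι.app one).hom (algebraMap A _ (y : A)))
    rw [← hcompat c ⟨y, y.2⟩]
    exact (IsLocalization.Away.algebraMap_isUnit (y : A)).map _
  { desc := fun c => CommRingCat.ofHom (IsLocalization.lift (M := S) (S := B)
      (g := (c.ι.app one).hom.comp (algebraMap A (Localization.Away one.val))) (hu c))
    fac := fun c s => CommRingCat.hom_ext
      (IsLocalization.ringHom_ext (Submonoid.powers s.val) (RingHom.ext fun x => by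
        show IsLocalization.lift (M := S) (hu c) (toLoc S B s (algebraMap A _ x)) =
          (c.ι.app s).hom (algebraMap A _ x)
        rw [toLoc_algebraMap, IsLocalization.lift_eq, hcompat c s x]
        rfl))
    uniq := fun c m hm => CommRingCat.hom_ext
      (IsLocalization.ringHom_ext S (RingHom.ext fun x => by
        show m.hom (algebraMap A B x) = IsLocalization.lift (M := S) (hu c) (algebraMap A B x)
        rw [IsLocalization.lift_eq, ← toLoc_algebraMap S B one x]
        exact congr($(hm one).hom (algebraMap A _ x)))) }

open TensorProduct in
/-- An étale algebra over a localization comes from a localization at a single element. -/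
theorem exists_etale_model (C : Type u) [CommRing C] [Algebra B C] [Algebra.Etale B C] :
    ∃ (s : A) (_ : s ∈ S) (E : Type u) (_ : CommRing E) (_ : Algebra (Localization.Away s) E)
      (_ : Algebra.Etale (Localization.Away s) E) (ι : Localization.Away s →+* B) (g : E →+* C),
      ι.comp (algebraMap A _) = algebraMap A B ∧
      IsPushout (CommRingCat.ofHom ι) (CommRingCat.ofHom (algebraMap (Localization.Away s) E))
        (CommRingCat.ofHom (algebraMap B C)) (CommRingCat.ofHom g) := by
  obtain ⟨s, E, f', g, hpo, hf'⟩ := MorphismProperty.exists_isPushout_of_isFiltered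
    (P := etaleProp.{u}) (isColimitAwayCocone S B) (CommRingCat.ofHom (algebraMap B C) :
      (awayCocone S B).pt ⟶ CommRingCat.of C) (etaleProp_ofHom.2 inferInstance)
  letI : Algebra (Localization.Away s.val) E := f'.hom.toAlgebra
  exact ⟨s.val, s.mem, E, inferInstance, inferInstance, hf'.toAlgebra,
    toLoc S B s, g.hom, RingHom.ext (toLoc_algebraMap S B s), hpo⟩

end Groth.Agent.ProEtLib2
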