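import Groth.Prelude.Def_ProEtW
import Groth.Agent.ProEtLib2.IndEtaleWeakly
import Mathlib

/-!
A faithfully flat ind-étale extension with retractions for faithfully flat étale algebras.
-/

set_option autoImplicit false

open CategoryTheory CategoryTheory.Limits TensorProduct

universe u

namespace Groth.Agent.ProEtLib2

/-- A presented faithfully flat étale algebra. -/
structure FFIdx (R : Type u) [CommRing R] : Type u where
  n : ℕ
  rels : Finset (MvPolynomial (Fin n) R)
  etale : Algebra.Etale R (MvPolynomial (Fin n) R ⧸ Ideal.span (rels : Set (MvPolynomial (Fin n) R)))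
  ff : Module.FaithfullyFlat R
    (MvPolynomial (Fin n) R ⧸ Ideal.span (rels : Set (MvPolynomial (Fin n) R)))

variable {R : Type u} [CommRing R]

/-- The algebra of an index. -/
abbrev FFIdx.E (i : FFIdx R) : Type u :=
  MvPolynomial (Fin i.n) R ⧸ Ideal.span (i.rels : Set (MvPolynomial (Fin i.n) R))

/-- The relations defining the tensor product of the algebras in `s`. -/
def FFIdx.relsOn (s : Set (FFIdx R)) : Set (MvPolynomial (Σ i : s, Fin i.1.n) R) :=
  ⋃ i : s, MvPolynomial.rename (fun k => (⟨i, k⟩ : Σ i : s, Fin i.1.n)) ''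
    (i.1.rels : Set (MvPolynomial (Fin i.1.n) R))

/-- The tensor product of the algebras in `s`. -/
abbrev FFIdx.Tens (s : Set (FFIdx R)) : Type u :=
  MvPolynomial (Σ i : s, Fin i.1.n) R ⧸ Ideal.span (FFIdx.relsOn s)

/-- The inclusion of a factor. -/
noncomputable def FFIdx.inc {s : Set (FFIdx R)} (i : s) : i.1.E →ₐ[R] FFIdx.Tens s :=
  Ideal.Quotient.liftₐ _
    ((Ideal.Quotient.mkₐ R _).comp (MvPolynomial.rename fun k => (⟨i, k⟩ : Σ i : s, Fin i.1.n)))
    (fun p hp => by
      have hle : Ideal.span (i.1.rels : Set (MvPolynomial (Fin i.1.n) R)) ≤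
          RingHom.ker ((Ideal.Quotient.mkₐ R (Ideal.span (FFIdx.relsOn s))).comp
            (MvPolynomial.rename fun k => (⟨i, k⟩ : Σ i : s, Fin i.1.n))).toRingHom :=
        Ideal.span_le.2 fun r hr => Ideal.Quotient.eq_zero_iff_mem.2
          (Ideal.subset_span (Set.mem_iUnion.2 ⟨i, r, hr, rfl⟩))
      exact hle hp)

theorem FFIdx.inc_mk {s : Set (FFIdx R)} (i : s) (p : MvPolynomial (Fin i.1.n) R) :
    FFIdx.inc i (Ideal.Quotient.mk _ p) =
      Ideal.Quotient.mk _ (MvPolynomial.rename (fun k => (⟨i, k⟩ : Σ i : s, Fin i.1.n)) p) :=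
  rfl

theorem FFIdx.tens_ext {s : Set (FFIdx R)} {B : Type*} [CommRing B] [Algebra R B]
    {f g : FFIdx.Tens s →ₐ[R] B} (h : ∀ i, f.comp (FFIdx.inc i) = g.comp (FFIdx.inc i)) :
    f = g := by
  refine Ideal.Quotient.algHom_ext _ (MvPolynomial.algHom_ext fun ⟨i, k⟩ => ?_)
  have := AlgHom.congr_fun (h i) (Ideal.Quotient.mk _ (MvPolynomial.X k))
  simpa [FFIdx.inc_mk] using this

theorem FFIdx.exists_lift {s : Set (FFIdx R)} {B : Type*} [CommRing B] [Algebra R B]
    (f : ∀ i : s, i.1.E →ₐ[R] B) :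
    ∃ F : FFIdx.Tens s →ₐ[R] B, ∀ i, F.comp (FFIdx.inc i) = f i := by
  let φ : MvPolynomial (Σ i : s, Fin i.1.n) R →ₐ[R] B :=
    MvPolynomial.aeval fun p => f p.1 (Ideal.Quotient.mk _ (MvPolynomial.X p.2))
  have hφ : ∀ (i : s) (q : MvPolynomial (Fin i.1.n) R),
      φ (MvPolynomial.rename (fun k => (⟨i, k⟩ : Σ i : s, Fin i.1.n)) q) =
        f i (Ideal.Quotient.mk _ q) := fun i => by
    refine AlgHom.congr_fun (φ₁ := φ.comp (MvPolynomial.rename fun k => (⟨i, k⟩ : Σ i : s, Fin i.1.n)))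
      (φ₂ := (f i).comp (Ideal.Quotient.mkₐ R _)) (MvPolynomial.algHom_ext fun k => ?_)
    simp [φ]
  have hle : Ideal.span (FFIdx.relsOn s) ≤ RingHom.ker φ.toRingHom := by
    refine Ideal.span_le.2 fun r hr => ?_
    obtain ⟨i, q, hq, rfl⟩ := Set.mem_iUnion.1 hr
    show φ _ = 0
    rw [hφ, Ideal.Quotient.eq_zero_iff_mem.2 (Ideal.subset_span hq), map_zero]
  refine ⟨Ideal.Quotient.liftₐ _ φ fun r hr => hle hr,
    fun i => Ideal.Quotient.algHom_ext _ (MvPolynomial.algHom_ext fun k => ?_)⟩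
  simp [φ, FFIdx.inc_mk]

theorem FFIdx.formallyEtale_tens (s : Set (FFIdx R)) :
    Algebra.FormallyEtale R (FFIdx.Tens s) := by
  refine Algebra.FormallyEtale.iff_comp_bijective.2 fun B _ _ I hI => ⟨fun f g hfg => ?_, fun g => ?_⟩
  · refine FFIdx.tens_ext fun i => ?_
    haveI := i.1.etale
    refine (Algebra.FormallyEtale.comp_bijective R i.1.E I hI).1 ?_
    exact congrArg (fun t : FFIdx.Tens s →ₐ[R] B ⧸ I => t.comp (FFIdx.inc i)) hfg
  · have : ∀ i : s, ∃ h : i.1.E →ₐ[R] B,
        (Ideal.Quotient.mkₐ R I).comp h = g.comp (FFIdx.inc i) := fun i =>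
      haveI := i.1.etale
      (Algebra.FormallyEtale.comp_bijective R i.1.E I hI).2 _
    choose h hh using this
    obtain ⟨F, hF⟩ := FFIdx.exists_lift h
    refine ⟨F, FFIdx.tens_ext fun i => ?_⟩
    rw [← hh i, ← hF i]
    rfl

theorem FFIdx.etale_tens (s : Finset (FFIdx R)) :
    Algebra.Etale R (FFIdx.Tens (↑s : Set (FFIdx R))) := by
  haveI := FFIdx.formallyEtale_tens (↑s : Set (FFIdx R))
  haveI : Algebra.FinitePresentation R (FFIdx.Tens (↑s : Set (FFIdx R))) := by
    refine Algebra.FinitePresentation.quotient ?_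
    have hfin : (FFIdx.relsOn (↑s : Set (FFIdx R))).Finite :=
      Set.finite_iUnion fun i => (i.1.rels.finite_toSet).image _
    exact Submodule.fg_span hfin
  exact ⟨inferInstance, inferInstance⟩

/-- A geometric point extends along a faithfully flat étale algebra. -/
theorem exists_geomPoint (E : Type u) [CommRing E] [Algebra R E] [Algebra.Etale R E]
    [Module.FaithfullyFlat R E] (Ω : Type u) [Field Ω] [IsAlgClosed Ω] [Algebra R Ω] :
    Nonempty (E →ₐ[R] Ω) := by
  haveI : Nontrivial (Ω ⊗[R] E) := inferInstance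
  obtain ⟨M, hM⟩ := Ideal.exists_maximal (Ω ⊗[R] E)
  letI := Ideal.Quotient.field M
  haveI : Algebra.FiniteType Ω ((Ω ⊗[R] E) ⧸ M) :=
    Algebra.FiniteType.of_surjective (Ideal.Quotient.mkₐ Ω M) Ideal.Quotient.mk_surjective
  haveI : Module.Finite Ω ((Ω ⊗[R] E) ⧸ M) := finite_of_finite_type_of_isJacobsonRing Ω _
  haveI : Algebra.IsAlgebraic Ω ((Ω ⊗[R] E) ⧸ M) := Algebra.IsAlgebraic.of_finite Ω _
  let φ : ((Ω ⊗[R] E) ⧸ M) →ₐ[Ω] Ω := IsAlgClosed.lift
  exact ⟨((φ.comp (Ideal.Quotient.mkₐ Ω M)).restrictScalars R).comp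
    Algebra.TensorProduct.includeRight⟩

theorem exists_geomPoint_tens (s : Set (FFIdx R)) (Ω : Type u) [Field Ω] [IsAlgClosed Ω]
    [Algebra R Ω] : Nonempty (FFIdx.Tens s →ₐ[R] Ω) := by
  have h : ∀ i : s, Nonempty (i.1.E →ₐ[R] Ω) := fun i =>
    haveI := i.1.etale
    haveI := i.1.ff
    exists_geomPoint i.1.E Ω
  obtain ⟨F, -⟩ := FFIdx.exists_lift fun i => (h i).some
  exact ⟨F⟩

/-- Inclusion of tensor products. -/
noncomputable def FFIdx.mapTens {s t : Set (FFIdx R)} (h : s ⊆ t) :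
    FFIdx.Tens s →ₐ[R] FFIdx.Tens t :=
  (FFIdx.exists_lift fun i : s => FFIdx.inc (⟨i.1, h i.2⟩ : t)).choose

theorem FFIdx.mapTens_inc {s t : Set (FFIdx R)} (h : s ⊆ t) (i : s) :
    (FFIdx.mapTens h).comp (FFIdx.inc i) = FFIdx.inc (⟨i.1, h i.2⟩ : t) :=
  (FFIdx.exists_lift fun i : s => FFIdx.inc (⟨i.1, h i.2⟩ : t)).choose_spec i

theorem FFIdx.mapTens_comp {r s t : Set (FFIdx R)} (h : r ⊆ s) (h' : s ⊆ t) :
    (FFIdx.mapTens h').comp (FFIdx.mapTens h) = FFIdx.mapTens (h.trans h') :=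
  FFIdx.tens_ext fun i => by
    rw [AlgHom.comp_assoc, FFIdx.mapTens_inc, FFIdx.mapTens_inc, FFIdx.mapTens_inc]

theorem FFIdx.mapTens_id (s : Set (FFIdx R)) :
    FFIdx.mapTens (subset_refl s) = AlgHom.id R (FFIdx.Tens s) :=
  FFIdx.tens_ext fun i => by rw [FFIdx.mapTens_inc]; rfl

variable (R)

/-- The tensor product of all faithfully flat étale algebras. -/
abbrev BigTens : Type u := FFIdx.Tens (Set.univ : Set (FFIdx R))

/-- The finite stages. -/
noncomputable def bigDiagram : Finset (FFIdx R) ⥤ Under (CommRingCat.of R) where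
  obj s := Under.mk (CommRingCat.ofHom (algebraMap R (FFIdx.Tens (↑s : Set (FFIdx R)))))
  map {s t} f := Under.homMk
    (CommRingCat.ofHom (FFIdx.mapTens (Finset.coe_subset.2 (leOfHom f))).toRingHom)
    (CommRingCat.hom_ext (FFIdx.mapTens (Finset.coe_subset.2 (leOfHom f))).comp_algebraMap)
  map_id s := Under.UnderMorphism.ext <| CommRingCat.hom_ext <| RingHom.ext fun x =>
    AlgHom.congr_fun (FFIdx.mapTens_id (↑s : Set (FFIdx R))) x
  map_comp {r s t} f g := Under.UnderMorphism.ext <| CommRingCat.hom_ext <| RingHom.ext fun x =>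
    (AlgHom.congr_fun (FFIdx.mapTens_comp (Finset.coe_subset.2 (leOfHom f))
      (Finset.coe_subset.2 (leOfHom g))) x).symm

theorem isIndEtale_bigTens : EtPBC.IsIndEtale R (BigTens R) := by
  classical
  let c : Cocone (bigDiagram R) :=
    { pt := Under.mk (CommRingCat.ofHom (algebraMap R (BigTens R)))
      ι :=
        { app := fun s => Under.homMk
            (CommRingCat.ofHom (FFIdx.mapTens (Set.subset_univ (↑s : Set (FFIdx R)))).toRingHom)
            (CommRingCat.hom_ext (FFIdx.mapTens (Set.subset_univ (↑s : Set (FFIdx R)))).comp_algebraMap)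
          naturality := fun s t f => Under.UnderMorphism.ext <| CommRingCat.hom_ext <|
            RingHom.ext fun x => AlgHom.congr_fun (FFIdx.mapTens_comp (Finset.coe_subset.2 (leOfHom f))
              (Set.subset_univ (↑t : Set (FFIdx R)))) x } }
  let ev : ∀ (d : Cocone (bigDiagram R)) (s : Finset (FFIdx R)),
      letI : Algebra R d.pt.right := d.pt.hom.hom.toAlgebra
      FFIdx.Tens (↑s : Set (FFIdx R)) →ₐ[R] d.pt.right := fun d s =>
    letI : Algebra R d.pt.right := d.pt.hom.hom.toAlgebra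
    ⟨(d.ι.app s).right.hom, fun a => congr($(Under.w (d.ι.app s)).hom a)⟩
  have hdesc : ∀ d : Cocone (bigDiagram R), ∃! m : c.pt ⟶ d.pt, ∀ s, c.ι.app s ≫ m = d.ι.app s := by
    intro d
    letI : Algebra R d.pt.right := d.pt.hom.hom.toAlgebra
    obtain ⟨F, hF⟩ := FFIdx.exists_lift (s := Set.univ) fun i : (Set.univ : Set (FFIdx R)) =>
      (ev d {i.1}).comp (FFIdx.inc (⟨i.1, Finset.mem_coe.2 (Finset.mem_singleton_self _)⟩ :
        (↑({i.1} : Finset (FFIdx R)) : Set (FFIdx R))))
    have hev : ∀ (s t : Finset (FFIdx R)) (h : s ≤ t),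
        (ev d t).comp (FFIdx.mapTens (Finset.coe_subset.2 h)) = ev d s := fun s t h =>
      AlgHom.ext fun x => congr($(d.w (homOfLE h)).right.hom x)
    refine ⟨Under.homMk (CommRingCat.ofHom F.toRingHom) (CommRingCat.hom_ext F.comp_algebraMap),
      fun s => Under.UnderMorphism.ext <| CommRingCat.hom_ext <| RingHom.ext fun x =>
        AlgHom.congr_fun (φ₁ := F.comp (FFIdx.mapTens (Set.subset_univ (↑s : Set (FFIdx R)))))
          (φ₂ := ev d s) (FFIdx.tens_ext fun i => ?_) x, fun m hm => ?_⟩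
    · rw [AlgHom.comp_assoc, FFIdx.mapTens_inc, hF,
        ← hev {i.1} s (Finset.singleton_subset_iff.2 i.2), AlgHom.comp_assoc, FFIdx.mapTens_inc]
    · refine Under.UnderMorphism.ext <| CommRingCat.hom_ext <| RingHom.ext fun x => ?_
      let m' : BigTens R →ₐ[R] d.pt.right := ⟨m.right.hom, fun a => congr($(Under.w m).hom a)⟩
      refine AlgHom.congr_fun (φ₁ := m') (φ₂ := F) (FFIdx.tens_ext fun i => ?_) x
      rw [hF]
      have h2 : (⟨i.1, i.2⟩ : (Set.univ : Set (FFIdx R))) = i := rfl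
      refine AlgHom.ext fun y => ?_
      have h3 := congr($(hm {i.1}).right.hom (FFIdx.inc (⟨i.1, Finset.mem_coe.2
        (Finset.mem_singleton_self _)⟩ : (↑({i.1} : Finset (FFIdx R)) : Set (FFIdx R))) y))
      refine Eq.trans ?_ h3
      show m' (FFIdx.inc i y) = m' (((FFIdx.mapTens (Set.subset_univ (↑({i.1} : Finset (FFIdx R)) :
        Set (FFIdx R)))).comp (FFIdx.inc (⟨i.1, Finset.mem_coe.2 (Finset.mem_singleton_self _)⟩ :
          (↑({i.1} : Finset (FFIdx R)) : Set (FFIdx R))))) y)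
      rw [FFIdx.mapTens_inc]
  refine ⟨Finset (FFIdx R), inferInstance, inferInstance, bigDiagram R, c,
    .ofExistsUnique hdesc, fun s => ?_, ⟨Iso.refl _⟩⟩
  rw [show ((bigDiagram R).obj s).hom.hom.toAlgebra =
    (Ideal.Quotient.algebra R : Algebra R (FFIdx.Tens (↑s : Set (FFIdx R)))) from
      Algebra.algebra_ext _ _ fun _ => rfl]
  exact FFIdx.etale_tens s

theorem exists_hom_bigTens (E : Type u) [CommRing E] [Algebra R E] [Algebra.Etale R E]
    [Module.FaithfullyFlat R E] : Nonempty (E →ₐ[R] BigTens R) := by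
  obtain ⟨n, π, hπ, t, ht⟩ := (inferInstance : Algebra.FinitePresentation R E).out
  let e : (MvPolynomial (Fin n) R ⧸ Ideal.span (t : Set (MvPolynomial (Fin n) R))) ≃ₐ[R] E :=
    (Ideal.quotientEquivAlgOfEq R ht).trans (Ideal.quotientKerAlgEquivOfSurjective (f := π) hπ)
  let i : FFIdx R := ⟨n, t, Algebra.Etale.of_equiv e.symm,
    Module.FaithfullyFlat.of_linearEquiv R E e.toLinearEquiv⟩
  exact ⟨(FFIdx.inc (⟨i, trivial⟩ : (Set.univ : Set (FFIdx R)))).comp e.symm.toAlgHom⟩

variable (A : Type u) [CommRing A]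

/-- The tower of extensions. -/
noncomputable def towerObj : ℕ → CommRingCat.{u}
  | 0 => CommRingCat.of A
  | n + 1 => CommRingCat.of (BigTens (towerObj n))

/-- The step maps. -/
noncomputable def towerStep (n : ℕ) : towerObj A n ⟶ towerObj A (n + 1) :=
  CommRingCat.ofHom (algebraMap (towerObj A n) (BigTens (towerObj A n)))

theorem exists_indEtale_hasEtaleRetractions :
    ∃ (C : Type u) (_ : CommRing C) (_ : Algebra A C),
      Module.FaithfullyFlat A C ∧ EtPBC.IsIndEtale A C ∧ ProEtW.HasEtaleRetractions C := by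
  let J := ULift.{u} ℕ
  let P := MorphismProperty.ind.{u} etaleProp.{u}
  let D₀ : ℕ ⥤ CommRingCat.{u} := Functor.ofSequence (towerStep A)
  let e : ULift.{u} ℕ ⥤ ℕ :=
    (Monotone.functor (f := (ULift.down : ULift.{u} ℕ → ℕ)) fun _ _ h => h)
  haveI : IsFiltered J := inferInstance
  let D : J ⥤ CommRingCat.{u} := e ⋙ D₀
  let c := colimit.cocone D
  have hc : IsColimit c := colimit.isColimit D
  have hP : ∀ m, P (D₀.map (homOfLE (Nat.zero_le m))) := by
    intro m
    induction m with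
    | zero =>
      rw [show homOfLE (Nat.zero_le 0) = 𝟙 (0 : ℕ) from rfl, D₀.map_id]
      refine MorphismProperty.le_ind _ _ ?_
      exact RingHom.Etale.of_bijective Function.bijective_id
    | succ m ih =>
      rw [← homOfLE_comp (Nat.zero_le m) (Nat.le_add_right m 1), D₀.map_comp,
        Functor.ofSequence_map_homOfLE_succ]
      exact MorphismProperty.comp_mem _ _ _ ih (isIndEtale_iff.1 (isIndEtale_bigTens _))
  let C := c.pt
  let ι : ∀ n, towerObj A n ⟶ c.pt := fun n => c.ι.app ⟨n⟩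
  have hι : ∀ m n (h : m ≤ n), D₀.map (homOfLE h) ≫ ι n = ι m := fun m n h =>
    c.w (homOfLE (show (⟨m⟩ : ULift.{u} ℕ) ≤ ⟨n⟩ from h))
  letI : Algebra A C := (ι 0).hom.toAlgebra
  have hind : EtPBC.IsIndEtale A C := by
    rw [isIndEtale_iff, ← MorphismProperty.ind_ind.{u} etaleProp_le]
    refine ⟨J, inferInstance, inferInstance, D,
      { app := fun j => D₀.map (homOfLE (Nat.zero_le j.down))
        naturality := fun i j f => ?_ }, c.ι, hc, fun j => ⟨hP j.down, hι 0 j.down (Nat.zero_le _)⟩⟩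
    show 𝟙 _ ≫ D₀.map (homOfLE (Nat.zero_le j.down)) =
      D₀.map (homOfLE (Nat.zero_le i.down)) ≫ D₀.map (homOfLE (show i.down ≤ j.down from (leOfHom f : i ≤ j)))
    rw [Category.id_comp, ← D₀.map_comp]
    rfl
  -- geometric points lift through the tower
  have hlift : ∀ (n : ℕ) (p : PrimeSpectrum (towerObj A n)),
      p ∈ Set.range (PrimeSpectrum.comap (ι n).hom) := by
    intro n p
    let Ω := AlgebraicClosure p.asIdeal.ResidueField
    let f₀ : towerObj A n →+* Ω :=
      (algebraMap p.asIdeal.ResidueField Ω).comp (algebraMap _ p.asIdeal.ResidueField)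
    have hstep : ∀ (k : ℕ) (f : towerObj A k →+* Ω), ∃ g : towerObj A (k + 1) →+* Ω,
        g.comp (towerStep A k).hom = f := fun k f => by
      letI := f.toAlgebra
      obtain ⟨g⟩ := exists_geomPoint_tens (R := towerObj A k) Set.univ Ω
      exact ⟨g.toRingHom, g.comp_algebraMap⟩
    choose g hg using hstep
    let h : ∀ k, towerObj A (n + k) →+* Ω := fun k => Nat.rec f₀ (fun k f => g (n + k) f) k
    have hh : ∀ k, (h (k + 1)).comp (towerStep A (n + k)).hom = h k := fun k => hg (n + k) (h k)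
    let t : ∀ m, D₀.obj m ⟶ CommRingCat.of Ω := fun m =>
      D₀.map (homOfLE (show m ≤ n + m from Nat.le_add_left m n)) ≫ CommRingCat.ofHom (h m)
    let s₀ : Cocone D₀ :=
      { pt := CommRingCat.of Ω
        ι := NatTrans.ofSequence t fun m => by
          show _ = t m ≫ 𝟙 _
          rw [Category.comp_id]
          show D₀.map _ ≫ D₀.map (homOfLE (show m + 1 ≤ (n + m) + 1 by omega)) ≫
            CommRingCat.ofHom (h (m + 1)) = t m
          rw [← D₀.map_comp_assoc, homOfLE_comp,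
            ← homOfLE_comp (show m ≤ n + m by omega) (Nat.le_add_right (n + m) 1), D₀.map_comp_assoc,
            Functor.ofSequence_map_homOfLE_succ]
          exact congrArg _ (CommRingCat.hom_ext (hh m)) }
    let Φ : c.pt ⟶ CommRingCat.of Ω := hc.desc (s₀.whisker e)
    have hΦ : ι n ≫ Φ = t n := hc.fac (s₀.whisker e) ⟨n⟩
    have hk : ∀ k, D₀.map (homOfLE (Nat.le_add_right n k)) ≫ CommRingCat.ofHom (h k) =
        CommRingCat.ofHom f₀ := by
      intro k
      induction k with
      | zero =>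
        rw [show homOfLE (Nat.le_add_right n 0) = 𝟙 n from rfl, D₀.map_id, Category.id_comp]
      | succ k ih =>
        rw [← homOfLE_comp (Nat.le_add_right n k) (Nat.le_add_right (n + k) 1), D₀.map_comp_assoc,
          Functor.ofSequence_map_homOfLE_succ]
        refine Eq.trans (congrArg _ ?_) ih
        exact CommRingCat.hom_ext (hh k)
    have hf : (Φ.hom.comp (ι n).hom) = f₀ := by
      have h1 : t n = CommRingCat.ofHom f₀ := hk n
      exact congrArg CommRingCat.Hom.hom (hΦ.trans h1)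
    refine ⟨⟨RingHom.ker Φ.hom, RingHom.ker_isPrime _⟩, PrimeSpectrum.ext ?_⟩
    show (RingHom.ker Φ.hom).comap (ι n).hom = p.asIdeal
    rw [RingHom.comap_ker, hf, RingHom.ker_comp_of_injective _ (algebraMap p.asIdeal.ResidueField Ω).injective,
      Ideal.ker_algebraMap_residueField]
  haveI : Module.Flat A C := flat_of_isIndEtale hind
  have hff : Module.FaithfullyFlat A C := Module.FaithfullyFlat.of_comap_surjective (hlift 0)
  refine ⟨C, inferInstance, inferInstance, hff, hind, fun B _ _ hB hB' => ?_⟩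
  obtain ⟨⟨n⟩, E, f', g, hpo, hf'⟩ := MorphismProperty.exists_isPushout_of_isFiltered
    (P := etaleProp.{u}) hc (CommRingCat.ofHom (algebraMap C B) : c.pt ⟶ CommRingCat.of B)
    (etaleProp_ofHom.2 hB')
  letI : Algebra (towerObj A n) E := f'.hom.toAlgebra
  haveI : Algebra.Etale (towerObj A n) E := hf'.toAlgebra
  haveI : Module.FaithfullyFlat (towerObj A n) E :=
    Module.FaithfullyFlat.of_comap_surjective fun p => by
      obtain ⟨q, rfl⟩ := hlift n p
      obtain ⟨w, rfl⟩ := PrimeSpectrum.comap_surjective_of_faithfullyFlat (B := B) q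
      refine ⟨PrimeSpectrum.comap g.hom w, ?_⟩
      rw [← PrimeSpectrum.comap_comp_apply, ← PrimeSpectrum.comap_comp_apply]
      exact congrArg (fun r : _ →+* B => PrimeSpectrum.comap r w)
        (congrArg CommRingCat.Hom.hom hpo.w).symm
  obtain ⟨u⟩ := exists_hom_bigTens (towerObj A n) E
  let v : E ⟶ c.pt := CommRingCat.ofHom u.toRingHom ≫ ι (n + 1)
  have hw : c.ι.app ⟨n⟩ ≫ 𝟙 c.pt = f' ≫ v := by
    refine (Category.comp_id _).trans ?_
    have h1 : f' ≫ CommRingCat.ofHom u.toRingHom = towerStep A n :=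
      CommRingCat.hom_ext u.comp_algebraMap
    show ι n = f' ≫ CommRingCat.ofHom u.toRingHom ≫ ι (n + 1)
    rw [← Category.assoc, h1, ← hι n (n + 1) (Nat.le_add_right n 1),
      Functor.ofSequence_map_homOfLE_succ]
    rfl
  refine ⟨{ (hpo.desc (𝟙 c.pt) v hw).hom with commutes' := fun x => ?_ }⟩
  exact congr($(hpo.inl_desc (𝟙 c.pt) v hw).hom x)

end Groth.Agent.ProEtLib2
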