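import Groth.Prelude.Def_ProEtW
import Groth.Agent.SchFinLib.EtRing
import Mathlib

/-!
Consequences of the existence of retractions for faithfully flat étale algebras.
-/

set_option autoImplicit false

universe u

open Polynomial

namespace Groth.Agent.ProEtLib2

/-- An étale algebra whose image contains `V(I)` has a point with values in any algebra in which
`I` generates an ideal contained in the Jacobson radical. -/
theorem exists_point {A : Type u} [CommRing A] (h : ProEtW.HasEtaleRetractions A) (I : Ideal A)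
    (Q : Type u) [CommRing Q] [Algebra A Q] [Algebra.Etale A Q]
    (hQ : PrimeSpectrum.zeroLocus (I : Set A) ⊆ Set.range (PrimeSpectrum.comap (algebraMap A Q)))
    (B : Type u) [CommRing B] [Algebra A B]
    (hB : I.map (algebraMap A B) ≤ Ideal.jacobson ⊥) :
    Nonempty (Q →ₐ[A] B) := by
  let U : Set (PrimeSpectrum A) := Set.range (PrimeSpectrum.comap (algebraMap A Q))
  have hUo : IsOpen U :=
    (PrimeSpectrum.isOpenMap_comap_of_hasGoingDown_of_finitePresentation (R := A) (S := Q)).isOpen_range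
  obtain ⟨J, hJ⟩ := (PrimeSpectrum.isClosed_iff_zeroLocus_ideal _).1 hUo.isClosed_compl
  have htop : I ⊔ J = ⊤ := by
    by_contra hne
    obtain ⟨m, hm, hle⟩ := Ideal.exists_le_maximal _ hne
    have h1 : (⟨m, hm.isPrime⟩ : PrimeSpectrum A) ∈ U := hQ ((le_sup_left : I ≤ I ⊔ J).trans hle)
    have h2 : (⟨m, hm.isPrime⟩ : PrimeSpectrum A) ∈ Uᶜ := by
      rw [hJ]; exact (le_sup_right : J ≤ I ⊔ J).trans hle
    exact h2 h1
  obtain ⟨i, hi, j, hj, hij⟩ := Submodule.mem_sup.1 (htop ▸ Submodule.mem_top : (1 : A) ∈ I ⊔ J)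
  let L := Localization.Away i
  haveI : Algebra.Etale A L := Algebra.Etale.of_isLocalizationAway i
  haveI : Algebra.Etale A (Q × L) := Groth.Agent.SchFinLib.etale_prod
  haveI : Module.FaithfullyFlat A (Q × L) := by
    refine Module.FaithfullyFlat.of_comap_surjective fun p => ?_
    by_cases hp : p ∈ U
    · obtain ⟨q, hq⟩ := hp
      refine ⟨PrimeSpectrum.comap (RingHom.fst Q L) q, ?_⟩
      rw [← PrimeSpectrum.comap_comp_apply]; exact hq
    · have hjp : J ≤ p.asIdeal := by
        have : p ∈ PrimeSpectrum.zeroLocus (J : Set A) := hJ ▸ hp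
        exact this
      have hip : i ∉ p.asIdeal := fun hip => p.2.ne_top ((Ideal.eq_top_iff_one _).2
        (hij ▸ add_mem hip (hjp hj)))
      obtain ⟨q, hq⟩ : p ∈ Set.range (PrimeSpectrum.comap (algebraMap A L)) := by
        rw [PrimeSpectrum.localization_away_comap_range L i]; exact hip
      refine ⟨PrimeSpectrum.comap (RingHom.snd Q L) q, ?_⟩
      rw [← PrimeSpectrum.comap_comp_apply]; exact hq
  obtain ⟨r⟩ := h (Q × L) inferInstance inferInstance
  let r' : (Q × L) →ₐ[A] B := (Algebra.ofId A B).comp r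
  have h01 : r' (0, 1) = 0 := by
    have he : IsIdempotentElem (r' (0, 1)) :=
      (show IsIdempotentElem ((0, 1) : Q × L) by simp [IsIdempotentElem]).map r'
    obtain ⟨w, hw⟩ := (IsLocalization.Away.algebraMap_isUnit (S := L) i).exists_right_inv
    have hmem : r' (0, 1) ∈ Ideal.jacobson (⊥ : Ideal B) := by
      refine hB ?_
      rw [show ((0 : Q), (1 : L)) = algebraMap A (Q × L) i * (0, w) by
        ext <;> simp [hw], map_mul, AlgHom.commutes]
      exact Ideal.mul_mem_right _ _ (Ideal.mem_map_of_mem _ hi)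
    obtain ⟨y, hy⟩ := ((Ideal.mem_jacobson_bot.1 hmem) (-1)).exists_left_inv
    calc r' (0, 1) = (y * (r' (0, 1) * -1 + 1)) * r' (0, 1) := by rw [hy, one_mul]
      _ = y * (r' (0, 1) - r' (0, 1) * r' (0, 1)) := by ring
      _ = 0 := by rw [he, sub_self, mul_zero]
  refine ⟨AlgHom.ofLinearMap (r'.toLinearMap.comp (LinearMap.inl A Q L)) ?_ fun x y => ?_⟩
  · show r' (1, 0) = 1
    have : r' (1, 0) + r' (0, 1) = 1 := by
      rw [← map_add, ← map_one r']; congr 1; ext <;> simp
    rwa [h01, add_zero] at this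
  · show r' (x * y, 0) = r' (x, 0) * r' (y, 0)
    rw [← map_mul]; congr 1; ext <;> simp

/-- Simple roots modulo a maximal ideal lift to the local ring at it. -/
theorem exists_root {A : Type u} [CommRing A] (h : ProEtW.HasEtaleRetractions A) (m : Ideal A)
    [m.IsMaximal] (G H : A[X]) (hG : G.Monic) (L : Type u) [Field L] [Algebra A L]
    (hL : RingHom.ker (algebraMap A L) = m) (r : L) (hr : aeval r G = 0)
    (hr' : aeval r (derivative G * H) ≠ 0) :
    ∃ x : Localization.AtPrime m, aeval x G = 0 ∧ IsUnit (aeval x (derivative G * H)) := by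
  let P : StandardEtalePair A := ⟨G, hG, derivative G * H, H, 0, 1, by ring⟩
  let σ : P.Ring →ₐ[A] L := P.lift r ⟨hr, isUnit_iff_ne_zero.2 hr'⟩
  haveI hp : (RingHom.ker σ.toRingHom).IsPrime := RingHom.ker_isPrime _
  have hQ : PrimeSpectrum.zeroLocus (m : Set A) ⊆
      Set.range (PrimeSpectrum.comap (algebraMap A P.Ring)) := by
    intro p hp'
    refine ⟨⟨_, hp⟩, PrimeSpectrum.ext ?_⟩
    show (RingHom.ker σ.toRingHom).comap (algebraMap A P.Ring) = p.asIdeal
    rw [RingHom.comap_ker, AlgHom.toRingHom_eq_coe, AlgHom.comp_algebraMap, hL]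
    exact ‹m.IsMaximal›.eq_of_le p.2.ne_top hp'
  obtain ⟨ψ⟩ := exists_point h m P.Ring hQ (Localization.AtPrime m) (by
    rw [IsLocalRing.jacobson_eq_maximalIdeal ⊥ bot_ne_top,
      Localization.AtPrime.map_eq_maximalIdeal])
  have := (StandardEtalePair.hasMap_X (P := P)).map ψ
  exact ⟨ψ P.X, this.1, this.2⟩

end Groth.Agent.ProEtLib2
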