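import Groth.Agent.ProEtLib2.IndEtale
import Groth.Agent.EtDescent.Smooth

/-!
Ind-étale algebras over `A/I` lift to ind-étale algebras over `A`.
-/

set_option autoImplicit false

open CategoryTheory CategoryTheory.Limits TensorProduct

universe u

attribute [local instance] Cardinal.fact_isRegular_aleph0

namespace Groth.Agent.ProEtLib2

variable (A Cb : Type u) [CommRing A] [CommRing Cb] [Algebra A Cb]

/-- Étale algebras over `A`, as objects under `A`. -/
abbrev etObj : ObjectProperty (Under (CommRingCat.of A)) := etaleProp.underObj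

/-- Étale `A`-algebras equipped with a map to `Cb`. -/
abbrev EtOver : Type (u + 1) :=
  CostructuredArrow (etObj A).ι (Under.mk (CommRingCat.ofHom (algebraMap A Cb)))

instance : EssentiallySmall.{u} (EtOver A Cb) := by
  have : ObjectProperty.EssentiallySmall.{u} (etObj A) :=
    ObjectProperty.EssentiallySmall.of_le (Q := isCardinalPresentable _ Cardinal.aleph0)
      fun X hX => etaleProp_le _ hX
  infer_instance

variable {A Cb}

/-- The ring of an object. -/
abbrev EtOver.ring (X : EtOver A Cb) : CommRingCat.{u} := X.left.obj.right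

instance (X : EtOver A Cb) : Algebra A X.ring := X.left.obj.hom.hom.toAlgebra

instance (X : EtOver A Cb) : Algebra.Etale A X.ring := X.left.property.toAlgebra

/-- The point of an object. -/
def EtOver.pt (X : EtOver A Cb) : X.ring →ₐ[A] Cb :=
  ⟨X.hom.right.hom, fun a => congr($(Under.w X.hom).hom a)⟩

/-- The object given by an étale algebra and a map to `Cb`. -/
abbrev EtOver.mk' (E : Type u) [CommRing E] [Algebra A E] [Algebra.Etale A E] (s : E →ₐ[A] Cb) :
    EtOver A Cb :=
  CostructuredArrow.mk (S := (etObj A).ι)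
    (Y := (⟨Under.mk (CommRingCat.ofHom (algebraMap A E)), etaleProp_ofHom.2 inferInstance⟩ :
      (etObj A).FullSubcategory))
    (Under.homMk (U := Under.mk (CommRingCat.ofHom (algebraMap A E)))
      (V := Under.mk (CommRingCat.ofHom (algebraMap A Cb)))
      (CommRingCat.ofHom s.toRingHom) (CommRingCat.hom_ext s.comp_algebraMap))

/-- A morphism of objects from a ring map. -/
def EtOver.homOf (X Y : EtOver A Cb) (f : X.ring →+* Y.ring)
    (h1 : ∀ a, f (algebraMap A X.ring a) = algebraMap A Y.ring a)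
    (h2 : ∀ x, Y.pt (f x) = X.pt x) : X ⟶ Y :=
  CostructuredArrow.homMk
    (ObjectProperty.homMk (Under.homMk (CommRingCat.ofHom f)
      (CommRingCat.hom_ext (RingHom.ext h1))))
    (Under.UnderMorphism.ext (CommRingCat.hom_ext (RingHom.ext h2)))

/-- The algebra map underlying a morphism. -/
def EtOver.algHom {X Y : EtOver A Cb} (f : X ⟶ Y) : X.ring →ₐ[A] Y.ring :=
  ⟨f.left.hom.right.hom, fun a => congr($(Under.w f.left.hom).hom a)⟩

theorem EtOver.pt_comp {X Y : EtOver A Cb} (f : X ⟶ Y) : Y.pt.comp (EtOver.algHom f) = X.pt :=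
  AlgHom.ext fun x => congr($(CostructuredArrow.w f).right.hom x)

theorem EtOver.hom_ext {X Y : EtOver A Cb} {f g : X ⟶ Y}
    (h : EtOver.algHom f = EtOver.algHom g) : f = g :=
  CostructuredArrow.hom_ext _ _ (ObjectProperty.hom_ext _
    (Under.UnderMorphism.ext (CommRingCat.hom_ext congr(($h).toRingHom))))

instance : IsFilteredOrEmpty (EtOver A Cb) where
  cocone_objs X Y := by
    let T := X.ring ⊗[A] Y.ring
    haveI : Algebra.Etale A T := Algebra.Etale.comp A X.ring T
    let Z : EtOver A Cb := EtOver.mk' T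
      (Algebra.TensorProduct.lift X.pt Y.pt fun _ _ => Commute.all _ _)
    exact ⟨Z, EtOver.homOf X Z (Algebra.TensorProduct.includeLeft (R := A) (S := A)
          (A := X.ring) (B := Y.ring)).toRingHom
        (fun a => AlgHom.commutes (Algebra.TensorProduct.includeLeft (R := A) (S := A)
          (A := X.ring) (B := Y.ring)) a)
        (fun x => by
          show Algebra.TensorProduct.lift X.pt Y.pt (fun _ _ => Commute.all _ _) (x ⊗ₜ[A] (1 : Y.ring)) = X.pt x
          simp),
      EtOver.homOf Y Z (Algebra.TensorProduct.includeRight (R := A) (A := X.ring) (B := Y.ring)).toRingHom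
        (fun a => AlgHom.commutes (Algebra.TensorProduct.includeRight (R := A) (A := X.ring) (B := Y.ring)) a)
        (fun x => by
          show Algebra.TensorProduct.lift X.pt Y.pt (fun _ _ => Commute.all _ _) ((1 : X.ring) ⊗ₜ[A] x) = Y.pt x
          simp), trivial⟩
  cocone_maps X Y f g := by
    let φ := Algebra.TensorProduct.lift (EtOver.algHom f) (EtOver.algHom g) fun _ _ => Commute.all _ _
    let μ := Algebra.TensorProduct.lmul' A (S := X.ring)
    letI : Algebra (X.ring ⊗[A] X.ring) Y.ring := φ.toRingHom.toAlgebra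
    letI : Algebra (X.ring ⊗[A] X.ring) X.ring := μ.toRingHom.toAlgebra
    haveI : IsScalarTower A (X.ring ⊗[A] X.ring) Y.ring :=
      IsScalarTower.of_algebraMap_eq fun a => (φ.commutes a).symm
    haveI : IsScalarTower A (X.ring ⊗[A] X.ring) X.ring :=
      IsScalarTower.of_algebraMap_eq fun a => (μ.commutes a).symm
    haveI : Algebra.Etale A (X.ring ⊗[A] X.ring) := Algebra.Etale.comp A X.ring _
    haveI : Algebra.Etale (X.ring ⊗[A] X.ring) X.ring := Algebra.Etale.of_restrictScalars A _ _
    let T := Y.ring ⊗[X.ring ⊗[A] X.ring] X.ring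
    haveI : Algebra.Etale A T := Algebra.Etale.comp A Y.ring T
    have hc : ∀ t, Y.pt (φ t) = X.pt (μ t) := by
      intro t
      induction t with
      | zero => simp
      | tmul a b =>
        simp only [φ, μ, Algebra.TensorProduct.lift_tmul, Algebra.TensorProduct.lmul'_apply_tmul,
          map_mul]
        rw [← AlgHom.comp_apply, EtOver.pt_comp, ← AlgHom.comp_apply, EtOver.pt_comp]
      | add p q hp hq => simp only [map_add, hp, hq]
    letI : Algebra (X.ring ⊗[A] X.ring) Cb := (Y.pt.comp φ).toRingHom.toAlgebra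
    haveI : IsScalarTower A (X.ring ⊗[A] X.ring) Cb :=
      IsScalarTower.of_algebraMap_eq fun a => ((Y.pt.comp φ).commutes a).symm
    let aY : Y.ring →ₐ[X.ring ⊗[A] X.ring] Cb := ⟨Y.pt.toRingHom, fun t => rfl⟩
    let aX : X.ring →ₐ[X.ring ⊗[A] X.ring] Cb := ⟨X.pt.toRingHom, fun t => (hc t).symm⟩
    let s : T →ₐ[A] Cb :=
      (Algebra.TensorProduct.lift aY aX fun _ _ => Commute.all _ _).restrictScalars A
    let h : Y.ring →ₐ[A] T :=
      (Algebra.TensorProduct.includeLeft (R := X.ring ⊗[A] X.ring) (S := Y.ring)).restrictScalars A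
    refine ⟨EtOver.mk' T s, EtOver.homOf Y _ h.toRingHom (fun a => h.commutes a) (fun y => ?_), ?_⟩
    · show Algebra.TensorProduct.lift aY aX (fun _ _ => Commute.all _ _) (y ⊗ₜ (1 : X.ring)) = Y.pt y
      simp; rfl
    refine EtOver.hom_ext (AlgHom.ext fun x => ?_)
    show (EtOver.algHom f x) ⊗ₜ[X.ring ⊗[A] X.ring] (1 : X.ring) =
      (EtOver.algHom g x) ⊗ₜ[X.ring ⊗[A] X.ring] (1 : X.ring)
    have key : ∀ t : X.ring ⊗[A] X.ring,
        (φ t) ⊗ₜ[X.ring ⊗[A] X.ring] (1 : X.ring) = (1 : Y.ring) ⊗ₜ (μ t) := fun t => by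
      have := smul_tmul (R := X.ring ⊗[A] X.ring) (R' := X.ring ⊗[A] X.ring) t (1 : Y.ring) (1 : X.ring)
      rwa [Algebra.smul_def, Algebra.smul_def, mul_one, mul_one] at this
    have hl := key (x ⊗ₜ 1)
    have hr := key (1 ⊗ₜ x)
    simp only [φ, μ, Algebra.TensorProduct.lift_tmul, Algebra.TensorProduct.lmul'_apply_tmul,
      map_one, mul_one, one_mul] at hl hr
    exact hl.trans hr.symm

instance : IsFiltered (EtOver A Cb) where
  nonempty := ⟨EtOver.mk' A (Algebra.ofId A Cb)⟩

variable (A Cb)

/-- The small index category. -/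
abbrev EtIdx : Type u := SmallModel.{u} (EtOver A Cb)

instance : IsFiltered (EtIdx A Cb) := .of_equivalence (equivSmallModel _)

/-- The diagram of étale algebras mapping to `Cb`. -/
noncomputable abbrev etDiagram : EtIdx A Cb ⥤ Under (CommRingCat.of A) :=
  (equivSmallModel (EtOver A Cb)).inverse ⋙ CostructuredArrow.proj _ _ ⋙ (etObj A).ι

/-- Lifting ind-étale algebras along `A → A/I`. -/
theorem exists_indEtale_lift {A : Type u} [CommRing A] (I : Ideal A) (Cb : Type u) [CommRing Cb]
    [Algebra (A ⧸ I) Cb] (h : EtPBC.IsIndEtale (A ⧸ I) Cb) :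
    ∃ (C : Type u) (_ : CommRing C) (_ : Algebra A C),
      EtPBC.IsIndEtale A C ∧ Nonempty ((C ⧸ I.map (algebraMap A C)) ≃ₐ[A ⧸ I] Cb) := by
  letI : Algebra A Cb := ((algebraMap (A ⧸ I) Cb).comp (Ideal.Quotient.mk I)).toAlgebra
  haveI : IsScalarTower A (A ⧸ I) Cb := IsScalarTower.of_algebraMap_eq fun _ => rfl
  let D := etDiagram A Cb
  let c := colimit.cocone D
  have hc : IsColimit c := colimit.isColimit D
  let C := c.pt.right
  letI : Algebra A C := c.pt.hom.hom.toAlgebra
  let ι : ∀ j, ((equivSmallModel (EtOver A Cb)).inverse.obj j).ring →ₐ[A] C := fun j =>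
    ⟨(c.ι.app j).right.hom, fun a => congr($(Under.w (c.ι.app j)).hom a)⟩
  let cC : Cocone D :=
    { pt := Under.mk (CommRingCat.ofHom (algebraMap A Cb))
      ι :=
        { app := fun j => ((equivSmallModel (EtOver A Cb)).inverse.obj j).hom
          naturality := fun i j f =>
            (CostructuredArrow.w ((equivSmallModel (EtOver A Cb)).inverse.map f)).trans
              (Category.comp_id _).symm } }
  let q : C →ₐ[A] Cb := ⟨(hc.desc cC).right.hom, fun a => congr($(Under.w (hc.desc cC)).hom a)⟩
  have hq : ∀ j x, q (ι j x) = ((equivSmallModel (EtOver A Cb)).inverse.obj j).pt x :=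
    fun j x => congr($(hc.fac cC j).right.hom x)
  have hrep : ∀ z : C, ∃ j x, ι j x = z := fun z =>
    Types.jointly_surjective_of_isColimit
      (isColimitOfPreserves (Under.forget _ ⋙ forget CommRingCat.{u}) hc) z
  -- maps from objects of `EtOver` to `C`
  have hobj : ∀ X : EtOver A Cb, ∃ g : X.ring →+* C, (∀ y, q (g y) = X.pt y) ∧
      (∀ a, g (algebraMap A X.ring a) = algebraMap A C a) ∧
      ∀ j (f : (equivSmallModel (EtOver A Cb)).inverse.obj j ⟶ X) x,
        g (EtOver.algHom f x) = ι j x := by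
    intro X
    let e := equivSmallModel (EtOver A Cb)
    refine ⟨((ι (e.functor.obj X)).comp (EtOver.algHom (e.unit.app X))).toRingHom, fun y => ?_,
      fun a => AlgHom.commutes _ a, ?_⟩
    · exact (hq _ _).trans (AlgHom.congr_fun (EtOver.pt_comp (e.unit.app X)) y)
    · intro j f x
      obtain ⟨g, hg⟩ := e.inverse.map_surjective (f ≫ e.unit.app X)
      have : D.map g ≫ c.ι.app _ = c.ι.app j := c.w g
      have := congr($(this).right.hom x)
      refine Eq.trans ?_ this
      show ι _ (EtOver.algHom (e.unit.app X) (EtOver.algHom f x)) = ι _ (EtOver.algHom (e.inverse.map g) x)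
      rw [hg]
      rfl
  obtain ⟨J₀, _, _, D₀, c₀, hc₀, hD₀, ⟨e₀⟩⟩ := h
  letI : ∀ k, Algebra (A ⧸ I) (D₀.obj k).right := fun k => (D₀.obj k).hom.hom.toAlgebra
  letI : ∀ k, Algebra A (D₀.obj k).right := fun k =>
    ((algebraMap (A ⧸ I) (D₀.obj k).right).comp (Ideal.Quotient.mk I)).toAlgebra
  haveI : ∀ k, IsScalarTower A (A ⧸ I) (D₀.obj k).right := fun k =>
    IsScalarTower.of_algebraMap_eq fun _ => rfl
  let ι₀ : ∀ k, (D₀.obj k).right →ₐ[A ⧸ I] Cb := fun k =>
    ⟨(c₀.ι.app k ≫ e₀.hom).right.hom, fun a => congr($(Under.w (c₀.ι.app k ≫ e₀.hom)).hom a)⟩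
  have hc₁ : IsColimit ((Under.forget _ ⋙ forget CommRingCat.{u}).mapCocone
      (c₀.extend e₀.hom)) :=
    isColimitOfPreserves _ (hc₀.extendIso e₀.hom)
  have hrep₀ : ∀ y : Cb, ∃ k x, ι₀ k x = y := fun y =>
    Types.jointly_surjective_of_isColimit hc₁ y
  have hqs : Function.Surjective q := by
    intro y
    obtain ⟨k, x, rfl⟩ := hrep₀ y
    haveI : Algebra.Etale (A ⧸ I) (D₀.obj k).right := hD₀ k
    obtain ⟨Q, _, _, φ, _, hφ, -⟩ :=
      Groth.Agent.EtDescent.exists_etale_lift A (A ⧸ I) (D₀.obj k).right Ideal.Quotient.mk_surjective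
    obtain ⟨w, rfl⟩ := hφ x
    obtain ⟨g, hg, -, -⟩ := hobj (EtOver.mk' Q (((ι₀ k).restrictScalars A).comp φ))
    exact ⟨g w, hg w⟩
  have hker : RingHom.ker q.toRingHom = I.map (algebraMap A C) := by
    refine le_antisymm (fun z hz => ?_) ?_
    · obtain ⟨j, x, rfl⟩ := hrep z
      let X := (equivSmallModel (EtOver A Cb)).inverse.obj j
      have hx : X.pt x = 0 := (hq j x).symm.trans hz
      -- the reduction of `X` maps to some stage of `Cb`
      let K := I.map (algebraMap A X.ring)
      have hK : K ≤ RingHom.ker X.pt.toRingHom := by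
        rw [Ideal.map_le_iff_le_comap]
        intro a ha
        show X.pt (algebraMap A X.ring a) = 0
        rw [AlgHom.commutes, IsScalarTower.algebraMap_apply A (A ⧸ I) Cb, Ideal.Quotient.algebraMap_eq,
          Ideal.Quotient.eq_zero_iff_mem.2 ha, map_zero]
      let ab : (A ⧸ I) →+* X.ring ⧸ K := Ideal.quotientMap K (algebraMap A X.ring) Ideal.le_comap_map
      letI : Algebra (A ⧸ I) (X.ring ⧸ K) := ab.toAlgebra
      haveI : IsScalarTower A (A ⧸ I) (X.ring ⧸ K) := IsScalarTower.of_algebraMap_eq fun _ => rfl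
      haveI : Algebra.FinitePresentation (A ⧸ I) (X.ring ⧸ K) := by
        refine Algebra.FinitePresentation.equiv (A := (A ⧸ I) ⊗[A] X.ring) ?_
        exact AlgEquiv.ofRingEquiv
          (f := (Algebra.TensorProduct.comm A (A ⧸ I) X.ring).toRingEquiv.trans
            (Algebra.TensorProduct.quotIdealMapEquivTensorQuot X.ring I).symm.toRingEquiv)
          (fun a => by
            obtain ⟨a, rfl⟩ := Ideal.Quotient.mk_surjective a
            rw [show (Ideal.Quotient.mk I a : A ⧸ I) = algebraMap A (A ⧸ I) a from rfl,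
              ← IsScalarTower.algebraMap_apply, ← IsScalarTower.algebraMap_apply]
            simp
            rw [← Algebra.algebraMap_eq_smul_one]
            rfl)
      let gb : (X.ring ⧸ K) →+* Cb := Ideal.Quotient.lift K X.pt.toRingHom fun y hy => hK hy
      have hgb : ∀ a, gb (algebraMap (A ⧸ I) (X.ring ⧸ K) a) = algebraMap (A ⧸ I) Cb a := fun a => by
        obtain ⟨a, rfl⟩ := Ideal.Quotient.mk_surjective a
        exact X.pt.commutes a
      obtain ⟨k, g', hg₁, hg₂⟩ := RingHom.EssFiniteType.exists_eq_comp_ι_app_of_isColimit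
        (CommRingCat.of (A ⧸ I)) (D₀ ⋙ Under.forget _) { app := fun k => (D₀.obj k).hom }
        (CommRingCat.ofHom (algebraMap (A ⧸ I) (X.ring ⧸ K)))
        ((Under.forget _).mapCocone (c₀.extend e₀.hom))
        (isColimitOfPreserves (Under.forget _) (hc₀.extendIso e₀.hom))
        (RingHom.finitePresentation_algebraMap.2 inferInstance) (CommRingCat.ofHom gb)
        (fun k => CommRingCat.hom_ext (RingHom.ext fun a => by
          show gb (algebraMap (A ⧸ I) (X.ring ⧸ K) a) = ι₀ k (algebraMap (A ⧸ I) (D₀.obj k).right a)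
          rw [hgb a, AlgHom.commutes]))
      have hz0 : ι₀ k (g'.hom (Ideal.Quotient.mk K x)) = 0 := (congr($(hg₂).hom _)).symm.trans hx
      obtain ⟨k', u, hu⟩ : ∃ (k' : J₀) (u : k ⟶ k'),
          (D₀.map u).right.hom (g'.hom (Ideal.Quotient.mk K x)) = 0 := by
        let z₁ : (D₀.obj k).right := g'.hom (Ideal.Quotient.mk K x)
        let z₀ : (D₀.obj k).right := 0
        obtain ⟨k', u, huv⟩ := (Types.FilteredColimit.isColimit_eq_iff' hc₁ (i := k)
          (by exact z₁) (by exact z₀)).1 (hz0.trans (map_zero (ι₀ k)).symm)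
        refine ⟨k', u, huv.trans ?_⟩
        exact map_zero (D₀.map u).right.hom
      let gk : X.ring →ₐ[A] (D₀.obj k').right :=
        { ((D₀.map u).right.hom.comp g'.hom).comp (Ideal.Quotient.mk K) with
          commutes' := fun a => by
            show (D₀.map u).right.hom (g'.hom (Ideal.Quotient.mk K (algebraMap A X.ring a))) = _
            have : Ideal.Quotient.mk K (algebraMap A X.ring a) =
                algebraMap (A ⧸ I) (X.ring ⧸ K) (Ideal.Quotient.mk I a) := rfl
            rw [this, show g'.hom (algebraMap (A ⧸ I) (X.ring ⧸ K) (Ideal.Quotient.mk I a)) = _ from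
              congr($(hg₁).hom _)]
            exact congr($(Under.w (D₀.map u)).hom (Ideal.Quotient.mk I a)) }
      have hgk : ∀ y, ι₀ k' (gk y) = X.pt y := fun y => by
        have h1 := congr($((c₀.extend e₀.hom).w u).right.hom (g'.hom (Ideal.Quotient.mk K y)))
        exact h1.trans (congr($(hg₂).hom (Ideal.Quotient.mk K y))).symm
      -- an étale neighbourhood reducing to that stage
      haveI : Algebra.Etale (A ⧸ I) (D₀.obj k').right := hD₀ k'
      obtain ⟨Q, _, _, φ, _, hφ, hkφ⟩ :=
        Groth.Agent.EtDescent.exists_etale_lift A (A ⧸ I) (D₀.obj k').right Ideal.Quotient.mk_surjective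
      have hkφ' : RingHom.ker φ.toRingHom = I.map (algebraMap A Q) := by
        rw [hkφ]; congr 1; exact Ideal.mk_ker
      haveI : Algebra.Etale A (X.ring ⊗[A] Q) := Algebra.Etale.comp A X.ring _
      let F := X.ring ⊗[A] Q
      let ψ : F →ₐ[A] (D₀.obj k').right :=
        Algebra.TensorProduct.lift gk φ fun _ _ => Commute.all _ _
      have hψ : Function.Surjective ψ := fun y => by
        obtain ⟨w, rfl⟩ := hφ y
        exact ⟨1 ⊗ₜ w, (Algebra.TensorProduct.lift_tmul gk φ _ 1 w).trans (by rw [map_one, one_mul])⟩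
      let L := I.map (algebraMap A F)
      have hL : L ≤ RingHom.ker ψ.toRingHom := by
        rw [Ideal.map_le_iff_le_comap]
        intro a ha
        show ψ (algebraMap A F a) = 0
        rw [AlgHom.commutes, IsScalarTower.algebraMap_apply A (A ⧸ I), Ideal.Quotient.algebraMap_eq,
          Ideal.Quotient.eq_zero_iff_mem.2 ha, map_zero]
      -- the kernel of the étale map `F/L → Cb_k'` is generated by an idempotent
      obtain ⟨ε, hεε, hεψ, hεker⟩ : ∃ ε : F, ε * ε - ε ∈ L ∧ ψ ε = 0 ∧
          ∀ y, ψ y = 0 → y * (1 - ε) ∈ L := by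
        let ψb : (F ⧸ L) →+* (D₀.obj k').right := Ideal.Quotient.lift L ψ.toRingHom fun y hy => hL hy
        letI : Algebra (F ⧸ L) (D₀.obj k').right := ψb.toAlgebra
        letI : Algebra (A ⧸ I) (F ⧸ L) :=
          (Ideal.quotientMap L (algebraMap A F) Ideal.le_comap_map).toAlgebra
        haveI : IsScalarTower A (A ⧸ I) (F ⧸ L) := IsScalarTower.of_algebraMap_eq fun _ => rfl
        haveI : IsScalarTower (A ⧸ I) (F ⧸ L) (D₀.obj k').right :=
          IsScalarTower.of_algebraMap_eq fun a => by
            obtain ⟨a, rfl⟩ := Ideal.Quotient.mk_surjective a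
            exact (ψ.commutes a).symm
        haveI : Algebra.Etale (A ⧸ I) (F ⧸ L) := by
          refine Algebra.Etale.of_equiv (A := (A ⧸ I) ⊗[A] F) ?_
          exact AlgEquiv.ofRingEquiv
            (f := (Algebra.TensorProduct.comm A (A ⧸ I) F).toRingEquiv.trans
              (Algebra.TensorProduct.quotIdealMapEquivTensorQuot F I).symm.toRingEquiv)
            (fun a => by
              obtain ⟨a, rfl⟩ := Ideal.Quotient.mk_surjective a
              rw [show (Ideal.Quotient.mk I a : A ⧸ I) = algebraMap A (A ⧸ I) a from rfl,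
                ← IsScalarTower.algebraMap_apply, ← IsScalarTower.algebraMap_apply]
              simp
              try rw [← Algebra.algebraMap_eq_smul_one]
              try rfl)
        haveI : Algebra.Etale (F ⧸ L) (D₀.obj k').right := Algebra.Etale.of_restrictScalars (A ⧸ I) _ _
        have hsb : Function.Surjective (algebraMap (F ⧸ L) (D₀.obj k').right) := fun y => by
          obtain ⟨w, hw⟩ := hψ y
          exact ⟨Ideal.Quotient.mk L w, hw⟩
        obtain ⟨εb, hεb, hεker⟩ : ∃ εb, IsIdempotentElem εb ∧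
            RingHom.ker (algebraMap (F ⧸ L) (D₀.obj k').right) = Ideal.span {εb} :=
          (Ideal.isIdempotentElem_iff_of_fg _
            (Algebra.FinitePresentation.ker_fG_of_surjective (R := F ⧸ L)
              (Algebra.ofId _ _) hsb)).mp
            ((Algebra.FormallyEtale.iff_of_surjective hsb).1 inferInstance)
        obtain ⟨ε, rfl⟩ := Ideal.Quotient.mk_surjective εb
        refine ⟨ε, Ideal.Quotient.eq.1 (by rw [map_mul]; exact hεb), ?_, fun y hy => ?_⟩
        · have h1 : Ideal.Quotient.mk L ε ∈ RingHom.ker (algebraMap (F ⧸ L) (D₀.obj k').right) := by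
            rw [hεker]; exact Ideal.mem_span_singleton_self _
          exact h1
        · have : Ideal.Quotient.mk L y ∈ RingHom.ker (algebraMap (F ⧸ L) (D₀.obj k').right) := hy
          rw [hεker, Ideal.mem_span_singleton] at this
          obtain ⟨t, ht⟩ := this
          rw [← Ideal.Quotient.eq_zero_iff_mem, map_mul, ht, map_sub, map_one, mul_comm _ t,
            mul_assoc, mul_sub, mul_one, hεb, sub_self, mul_zero]
      let E' := Localization.Away (1 - ε)
      let ψ' : E' →ₐ[A] (D₀.obj k').right :=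
        IsLocalization.liftAlgHom (M := Submonoid.powers (1 - ε)) (f := ψ) fun ⟨_, n, hn⟩ => by
          subst hn; simp [hεψ]
      let Y : EtOver A Cb := EtOver.mk' E' (((ι₀ k').restrictScalars A).comp ψ')
      let r : X.ring →ₐ[A] E' :=
        (IsScalarTower.toAlgHom A F E').comp Algebra.TensorProduct.includeLeft
      have hr : ∀ y, Y.pt (r y) = X.pt y := fun y => by
        show ι₀ k' (ψ' (algebraMap F E' (y ⊗ₜ 1))) = X.pt y
        rw [show ψ' (algebraMap F E' (y ⊗ₜ 1)) = ψ (y ⊗ₜ 1) from IsLocalization.lift_eq _ _]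
        rw [show ψ (y ⊗ₜ 1) = gk y * φ 1 from Algebra.TensorProduct.lift_tmul gk φ _ y 1, map_one, mul_one, hgk]
      obtain ⟨gY, -, hgA, hgY⟩ := hobj Y
      rw [← hgY j (EtOver.homOf X Y r.toRingHom (fun a => r.commutes a) hr) x]
      have hmem : r x ∈ I.map (algebraMap A E') := by
        show algebraMap F E' (x ⊗ₜ 1) ∈ _
        have h1 : ψ (x ⊗ₜ 1) = 0 :=
          (Algebra.TensorProduct.lift_tmul gk φ _ x 1).trans (by rw [show gk x = 0 from hu, zero_mul])
        have hu' : IsUnit (algebraMap F E' (1 - ε)) := IsLocalization.Away.algebraMap_isUnit _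
        rw [← Ideal.mul_unit_mem_iff_mem _ hu', ← map_mul]
        have := Ideal.mem_map_of_mem (algebraMap F E') (hεker _ h1)
        rwa [Ideal.map_map, ← IsScalarTower.algebraMap_eq] at this
      have := Ideal.mem_map_of_mem (gY : E' →+* C) hmem
      rw [Ideal.map_map, show (gY : E' →+* C).comp (algebraMap A E') = algebraMap A C from
        RingHom.ext hgA] at this
      exact this
    · rw [Ideal.map_le_iff_le_comap]
      intro a ha
      show q (algebraMap A C a) = 0
      rw [AlgHom.commutes, IsScalarTower.algebraMap_apply A (A ⧸ I) Cb, Ideal.Quotient.algebraMap_eq,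
        Ideal.Quotient.eq_zero_iff_mem.2 ha, map_zero]
  refine ⟨C, inferInstance, inferInstance, isIndEtale_iff.2 ?_, ⟨?_⟩⟩
  · rw [MorphismProperty.ind_iff_ind_underMk]
    exact ⟨EtIdx A Cb, inferInstance, inferInstance, ⟨D, c.ι, hc⟩,
      fun j => ((equivSmallModel (EtOver A Cb)).inverse.obj j).left.property⟩
  · refine AlgEquiv.ofBijective
      { Ideal.Quotient.lift _ q.toRingHom (fun y hy => RingHom.mem_ker.1 (hker.symm ▸ hy)) with
        commutes' := fun a => by
          obtain ⟨a, rfl⟩ := Ideal.Quotient.mk_surjective a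
          exact q.commutes a } ⟨?_, Ideal.Quotient.lift_surjective_of_surjective _ _ hqs⟩
    exact RingHom.lift_injective_of_ker_le_ideal _ _ hker.le

end Groth.Agent.ProEtLib2
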